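import Cfsg.Agent.H866.J4Eleven

/-!
# The odd part of S5582 from the statements S5566, S5573, S5575, S5577 (helper866)
-/

set_option autoImplicit false

namespace Cfsg.Agent.H866.J4OddEnd

open Cfsg Subgroup
open Cfsg.Agent.OrdDiv
open Cfsg.Agent.H866.J4Ord Cfsg.Agent.H866.J4Min Cfsg.Agent.H866.OddTools Cfsg.Agent.H866.J4Odd
open Cfsg.Agent.H866.J4Eleven

universe u

variable {G : Type u} [Group G] [Finite G]

/-- a subgroup of prime order `p` is a Sylow subgroup when `p ^ 2 ∤ |G|` -/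
theorem exists_sylow_eq (hG : Nat.card G = nJ) {p n : ℕ} [hp : Fact p.Prime] (hp2 : ¬ p ^ (n + 1) ∣ nJ)
    {P : Subgroup G} (hP : Nat.card P = p ^ n) : ∃ S : Sylow p G, (S : Subgroup G) = P := by
  have h1 : IsPGroup p P := IsPGroup.of_card hP
  obtain ⟨S, hS⟩ := h1.exists_le_sylow
  refine ⟨S, (Subgroup.eq_of_le_of_card_ge hS ?_).symm⟩
  obtain ⟨k, hk⟩ := IsPGroup.iff_card.1 S.2
  rw [hP, hk]
  refine Nat.pow_le_pow_right hp.out.pos ?_
  by_contra h2
  apply hp2
  rw [← hG]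
  refine (pow_dvd_pow p (by omega : n + 1 ≤ k)).trans ?_
  rw [← hk]
  exact Subgroup.card_subgroup_dvd_card (S : Subgroup G)

/-- elementary abelian 2-subgroups have order at most `2 ^ 11` -/
theorem ea_le (h66 : ∀ T : Sylow 2 G, ∃! V : Subgroup G, V ≤ (T : Subgroup G) ∧ IsElementaryAbelian 2 V ∧
      Nat.card ↥V = 2 ^ 11) (A : Subgroup G) (hA : IsElementaryAbelian 2 A) : Nat.card A ≤ 2 ^ 11 := by
  by_contra hlt
  push Not at hlt
  have h1 : IsPGroup 2 A := fun x => ⟨1, by rw [pow_one]; exact Subtype.ext (hA.2 x x.2)⟩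
  obtain ⟨T, hT⟩ := h1.exists_le_sylow
  obtain ⟨k, hk⟩ := IsPGroup.iff_card.1 h1
  have hk1 : 12 ≤ k := by
    by_contra h0
    have h2 : 2 ^ k ≤ 2 ^ 11 := Nat.pow_le_pow_right (by norm_num) (by omega)
    omega
  obtain ⟨V, -, hV⟩ := h66 T
  -- every subgroup of `A` of order `2 ^ 11` is `V`
  have h2 : ∀ B : Subgroup G, B ≤ A → Nat.card B = 2 ^ 11 → B = V := fun B hB hc => by
    refine hV B ⟨hB.trans hT, ⟨⟨⟨fun a b => ?_⟩⟩, fun a ha => hA.2 a (hB ha)⟩, hc⟩
    have h3 := congrArg Subtype.val (hA.1.is_comm.comm ⟨a, hB a.2⟩ ⟨b, hB b.2⟩)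
    exact Subtype.ext h3
  -- an element outside `V`
  have h3 : ∃ B : Subgroup G, B ≤ A ∧ Nat.card B = 2 ^ 11 := by
    obtain ⟨B, hB⟩ := Sylow.exists_subgroup_card_pow_prime 2 (G := A) (n := 11) (hk ▸ pow_dvd_pow 2 (by omega))
    exact ⟨B.map A.subtype, Subgroup.map_subtype_le _, by
      rw [Subgroup.card_map_of_injective A.subtype_injective, hB]⟩
  obtain ⟨B, hBA, hB⟩ := h3
  have hBV := h2 B hBA hB
  have h4 : ∃ a ∈ A, a ∉ B := by
    by_contra h0
    push Not at h0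
    have h5 := Subgroup.card_dvd_of_le (fun x hx => h0 x hx : A ≤ B)
    have h6 := Nat.le_of_dvd Nat.card_pos h5
    omega
  obtain ⟨a, haA, haB⟩ := h4
  -- a subgroup of order `2 ^ 11` containing `a`
  have ha2 : orderOf (⟨a, haA⟩ : A) = 2 := by
    refine orderOf_eq_prime (Subtype.ext (hA.2 a haA)) fun h0 => haB ?_
    have : a = 1 := congrArg Subtype.val h0
    rw [this]
    exact one_mem _
  have hz : Nat.card (Subgroup.zpowers (⟨a, haA⟩ : A)) = 2 ^ 1 := by rw [Nat.card_zpowers, ha2, pow_one]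
  obtain ⟨D, hD, hDa⟩ := Sylow.exists_subgroup_card_pow_prime_le 2 (G := A) (n := 1) (m := 11)
    (hk ▸ pow_dvd_pow 2 (by omega)) _ hz (by norm_num)
  have h5 := h2 (D.map A.subtype) (Subgroup.map_subtype_le _) (by
    rw [Subgroup.card_map_of_injective A.subtype_injective, hD])
  apply haB
  rw [hBV, ← h5]
  exact ⟨⟨a, haA⟩, hDa (Subgroup.mem_zpowers _), rfl⟩

theorem four_of_GL {G : Type*} [Group G] {M : Subgroup G}
    (h : ∃ K : Subgroup G, K ≤ M ∧ Nonempty (↥K ≃* GL (Fin 2) (ZMod 3))) : ∃ x ∈ M, orderOf x = 4 := by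
  obtain ⟨K, hK, ⟨e⟩⟩ := h
  let g : GL (Fin 2) (ZMod 3) := ⟨!![0, 1; -1, 0], !![0, -1; 1, 0], by decide, by decide⟩
  have hg : orderOf g = 2 ^ (1 + 1) := by
    refine orderOf_eq_prime_pow (fun h => ?_) ?_
    · have h1 := congrArg Units.val h
      revert h1
      decide
    · apply Units.ext
      decide
  refine ⟨(e.symm g : G), hK (e.symm g).2, ?_⟩
  rw [Subgroup.orderOf_coe, e.symm.orderOf_eq, hg]
  norm_num

theorem map_conj_cent {G : Type*} [Group G] (g : G) (P : Subgroup G) :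
    centralizer ((P.map (MulAut.conj g).toMonoidHom : Subgroup G) : Set G) =
      (centralizer (P : Set G)).map (MulAut.conj g).toMonoidHom := by
  ext x
  rw [mem_centralizer_iff]
  constructor
  · intro hx
    refine ⟨g⁻¹ * x * g, ?_, by show g * (g⁻¹ * x * g) * g⁻¹ = x; group⟩
    rw [SetLike.mem_coe, mem_centralizer_iff]
    intro y hy
    have h0 := hx (g * y * g⁻¹) ⟨y, hy, rfl⟩
    have h1 : y * (g⁻¹ * x * g) = g⁻¹ * ((g * y * g⁻¹) * x) * g := by group
    have h2 : g⁻¹ * x * g * y = g⁻¹ * (x * (g * y * g⁻¹)) * g := by group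
    rw [h1, h2, h0]
  · rintro ⟨y, hy, rfl⟩ _ ⟨w, hw, rfl⟩
    have hy' := mem_centralizer_iff.1 hy w hw
    show g * w * g⁻¹ * (g * y * g⁻¹) = g * y * g⁻¹ * (g * w * g⁻¹)
    have h1 : g * w * g⁻¹ * (g * y * g⁻¹) = g * (w * y) * g⁻¹ := by group
    have h2 : g * y * g⁻¹ * (g * w * g⁻¹) = g * (y * w) * g⁻¹ := by group
    rw [h1, h2, hy']

/-- **the facts, from the statements** -/
theorem mk_facts (T : OrderTable.{u}) (hS : Known.{u}) (hG : Nat.card G = nJ) {z : G}
    (h7C : 7 ∣ Nat.card (centralizer ({z} : Set G)))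
    (h66 : ∀ T : Sylow 2 G, ∃! V : Subgroup G, V ≤ (T : Subgroup G) ∧ IsElementaryAbelian 2 V ∧ Nat.card ↥V = 2 ^ 11)
    (h73 : ∀ S : Subgroup G, Nat.card S = 7 → S ≤ centralizer ({z} : Set G) →
      Nat.card (normalizer (S : Set G)) = 3 * Nat.card (centralizer (S : Set G)) ∧
      Nat.card (normalizer (S : Set G)) = 2 ^ 3 * 3 ^ 2 * 5 * 7)
    (h11 : ∀ U : Sylow 11 G, Nat.card ↥(U : Subgroup G) = 11 ^ 3 →
      Nat.card ↥(normalizer ((U : Subgroup G) : Set G)) = 2 ^ 4 * 3 * 5 * 11 ^ 3)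
    (h23 : ∀ U : Sylow 23 G, Nat.card ↥(normalizer ((U : Subgroup G) : Set G)) = 23 * 22)
    (h29 : ∀ U : Sylow 29 G, centralizer ((U : Subgroup G) : Set G) = (U : Subgroup G) ∧
      Nat.card ↥(normalizer ((U : Subgroup G) : Set G)) = 29 * 28)
    (h37 : ∀ U : Sylow 37 G, centralizer ((U : Subgroup G) : Set G) = (U : Subgroup G) ∧
      Nat.card ↥(normalizer ((U : Subgroup G) : Set G)) = 37 * 12)
    (h43 : ∀ U : Sylow 43 G, centralizer ((U : Subgroup G) : Set G) = (U : Subgroup G) ∧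
      Nat.card ↥(normalizer ((U : Subgroup G) : Set G)) = 43 * 14) : Facts G := by
  have f7 : Fact (Nat.Prime 7) := ⟨by norm_num⟩
  have f23 : Fact (Nat.Prime 23) := ⟨by norm_num⟩
  have f29 : Fact (Nat.Prime 29) := ⟨by norm_num⟩
  have f37 : Fact (Nat.Prime 37) := ⟨by norm_num⟩
  have f43 : Fact (Nat.Prime 43) := ⟨by norm_num⟩
  -- the subgroups of order seven
  obtain ⟨y, hy⟩ := exists_prime_orderOf_dvd_card' (G := centralizer ({z} : Set G)) 7 h7C
  have hY : Nat.card (Subgroup.zpowers (y : G)) = 7 := by rw [Nat.card_zpowers, Subgroup.orderOf_coe, hy]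
  have hYC : Subgroup.zpowers (y : G) ≤ centralizer ({z} : Set G) := Subgroup.zpowers_le.2 y.2
  have h7 : ∀ S : Subgroup G, Nat.card S = 7 → Nat.card (normalizer (S : Set G)) = 2520 ∧
      Nat.card (normalizer (S : Set G)) = 3 * Nat.card (centralizer (S : Set G)) := by
    intro S hS
    obtain ⟨S1, hS1⟩ := exists_sylow_eq hG (p := 7) (n := 1) (by norm_num [nJ]) (P := S) (by rw [hS]; norm_num)
    obtain ⟨S2, hS2⟩ := exists_sylow_eq hG (p := 7) (n := 1) (by norm_num [nJ]) (P := Subgroup.zpowers (y : G))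
      (by rw [hY]; norm_num)
    obtain ⟨g, hg⟩ := MulAction.exists_smul_eq G S2 S1
    have h1 : S = (Subgroup.zpowers (y : G)).map (MulAut.conj g).toMonoidHom := by
      rw [← hS1, ← hg, Sylow.coe_subgroup_smul, hS2]
      rfl
    obtain ⟨h2, h3⟩ := h73 _ hY hYC
    have h4 : normalizer (S : Set G) =
        (normalizer ((Subgroup.zpowers (y : G) : Subgroup G) : Set G)).map (MulAut.conj g).toMonoidHom := by
      rw [h1, Subgroup.map_equiv_normalizer_eq]
    have h5 := map_conj_cent g (Subgroup.zpowers (y : G))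
    rw [← h1] at h5
    rw [h4, h5, Subgroup.card_map_of_injective (MulAut.conj g).injective,
      Subgroup.card_map_of_injective (MulAut.conj g).injective]
    exact ⟨by rw [h3]; norm_num, h2⟩
  have key : ∀ (p : ℕ) [Fact p.Prime], ¬ p ^ 2 ∣ nJ → ∀ (Q : Subgroup G → Prop),
      (∀ U : Sylow p G, Q U) → ∀ P : Subgroup G, Nat.card P = p → Q P := by
    intro p hp h1 Q hQ P hP
    obtain ⟨U, hU⟩ := exists_sylow_eq hG (p := p) (n := 1) h1 (P := P) (by rw [hP, pow_one])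
    rw [← hU]
    exact hQ U
  exact
    { tab := T
      known := hS
      card := hG
      ea := ea_le h66
      n7 := h7
      n11 := fun U hU => by
        obtain ⟨V, hV⟩ := exists_sylow_eq hG (p := 11) (n := 3) (by norm_num [nJ]) hU
        rw [← hV]
        exact h11 V (by rw [hV]; exact hU)
      n23 := key 23 (by norm_num [nJ]) (fun P => Nat.card (normalizer (P : Set G)) = 23 * 22) h23
      c29 := key 29 (by norm_num [nJ]) (fun P => centralizer (P : Set G) ≤ P) fun U => (h29 U).1.le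
      n29 := key 29 (by norm_num [nJ]) (fun P => Nat.card (normalizer (P : Set G)) = 29 * 28) fun U => (h29 U).2
      c37 := key 37 (by norm_num [nJ]) (fun P => centralizer (P : Set G) ≤ P) fun U => (h37 U).1.le
      n37 := key 37 (by norm_num [nJ]) (fun P => Nat.card (normalizer (P : Set G)) = 37 * 12) fun U => (h37 U).2
      c43 := key 43 (by norm_num [nJ]) (fun P => centralizer (P : Set G) ≤ P) fun U => (h43 U).1.le
      n43 := key 43 (by norm_num [nJ]) (fun P => Nat.card (normalizer (P : Set G)) = 43 * 14) fun U => (h43 U).2 }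

/-- **the odd part of S5582** -/
theorem odd_end (T : OrderTable.{u}) (hS : Known.{u}) (hG : Nat.card G = nJ) {z : G}
    (h7C : 7 ∣ Nat.card (centralizer ({z} : Set G)))
    (h66 : ∀ T : Sylow 2 G, ∃! V : Subgroup G, V ≤ (T : Subgroup G) ∧ IsElementaryAbelian 2 V ∧ Nat.card ↥V = 2 ^ 11)
    (h73 : ∀ S : Subgroup G, Nat.card S = 7 → S ≤ centralizer ({z} : Set G) →
      Nat.card (normalizer (S : Set G)) = 3 * Nat.card (centralizer (S : Set G)) ∧
      Nat.card (normalizer (S : Set G)) = 2 ^ 3 * 3 ^ 2 * 5 * 7)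
    (h75 : ∀ U : Sylow 11 G, IsExtraspecial 11 ↥(U : Subgroup G) ∧ Nat.card ↥(U : Subgroup G) = 11 ^ 3 ∧
      Nat.card ↥(normalizer ((U : Subgroup G) : Set G)) = 2 ^ 4 * 3 * 5 * 11 ^ 3 ∧
      ∃ K : Subgroup G, K ≤ normalizer ((U : Subgroup G) : Set G) ∧ Nonempty (↥K ≃* GL (Fin 2) (ZMod 3)))
    (h23 : ∀ U : Sylow 23 G, Nat.card ↥(normalizer ((U : Subgroup G) : Set G)) = 23 * 22)
    (h29 : ∀ U : Sylow 29 G, centralizer ((U : Subgroup G) : Set G) = (U : Subgroup G) ∧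
      Nat.card ↥(normalizer ((U : Subgroup G) : Set G)) = 29 * 28)
    (h37 : ∀ U : Sylow 37 G, centralizer ((U : Subgroup G) : Set G) = (U : Subgroup G) ∧
      Nat.card ↥(normalizer ((U : Subgroup G) : Set G)) = 37 * 12)
    (h43 : ∀ U : Sylow 43 G, centralizer ((U : Subgroup G) : Set G) = (U : Subgroup G) ∧
      Nat.card ↥(normalizer ((U : Subgroup G) : Set G)) = 43 * 14)
    (hc : ∀ U : Sylow 11 G, centralizer ((U : Subgroup G) : Set G) ≤ (U : Subgroup G))
    (hn : ∀ U : Sylow 11 G, normalizer (((center (U : Subgroup G)).map (U : Subgroup G).subtype : Subgroup G) : Set G) ≤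
      normalizer ((U : Subgroup G) : Set G)) :
    (∀ U : Sylow 11 G, IsCoatom (normalizer ((U : Subgroup G) : Set G))) ∧
    (∀ U : Sylow 29 G, IsCoatom (normalizer ((U : Subgroup G) : Set G))) ∧
    (∀ U : Sylow 37 G, IsCoatom (normalizer ((U : Subgroup G) : Set G))) ∧
    (∀ U : Sylow 43 G, IsCoatom (normalizer ((U : Subgroup G) : Set G))) := by
  have f29 : Fact (Nat.Prime 29) := ⟨by norm_num⟩
  have f37 : Fact (Nat.Prime 37) := ⟨by norm_num⟩
  have f43 : Fact (Nat.Prime 43) := ⟨by norm_num⟩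
  have hcard : ∀ (p : ℕ) [Fact p.Prime], p ∣ nJ → ¬ p ^ 2 ∣ nJ → ∀ U : Sylow p G, Nat.card (U : Subgroup G) = p := by
    intro p hp h1 h2 U
    obtain ⟨k, hk⟩ := IsPGroup.iff_card.1 U.2
    have h3 := U.card_mul_index
    rw [hG, hk] at h3
    have h4 : k ≠ 0 := by
      rintro rfl
      rw [pow_zero, one_mul] at h3
      exact U.not_dvd_index (h3 ▸ h1)
    have h5 : ¬ 2 ≤ k := fun h => h2 ((pow_dvd_pow p h).trans (h3 ▸ Dvd.intro _ rfl))
    have h6 : k = 1 := by omega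
    rw [hk, h6, pow_one]
  have F : Facts G := mk_facts T hS hG h7C h66 h73 (fun U _ => (h75 U).2.2.1) h23 h29 h37 h43
  refine ⟨fun U => ?_, fun U => F.coatom_29 (hcard 29 (by norm_num [nJ]) (by norm_num [nJ]) U),
    fun U => F.coatom_37 (hcard 37 (by norm_num [nJ]) (by norm_num [nJ]) U),
    fun U => F.coatom_43 (hcard 43 (by norm_num [nJ]) (by norm_num [nJ]) U)⟩
  obtain ⟨h1, h2, -, h3⟩ := h75 U
  exact coatom_11 F ⟨h2, h1, hc U, hn U, four_of_GL h3⟩

end Cfsg.Agent.H866.J4OddEnd
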