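import Cfsg.Agent.H866.J4OddEnd
import Cfsg.Agent.H821.J4MaxD
import Cfsg.Agent.S5566
import Cfsg.Agent.S5573
import Cfsg.Agent.S5575
import Cfsg.Agent.S5577

/-!
# `J4Odd.Facts G` for every finite simple group of Janko-four type (helper866)
-/

set_option autoImplicit false

namespace Cfsg.Agent.H866.J4Facts

open Cfsg Cfsg.Agent.OrdDiv

universe u

/-- **the facts on `J4`** -/
theorem facts (T : OrderTable.{u}) (hS : J4Min.Known.{u}) {G : Type u} [Group G] [Finite G] [IsSimpleGroup G]
    (hG : ¬ IsMulCommutative G) (hJ : IsOfJankoFourType G) : J4Odd.Facts G := by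
  obtain ⟨z, hz⟩ := id hJ
  have hcG := H821.J4MaxD.card_G hz
  have F := H821.J4MaxB.facts hz
  refine J4OddEnd.mk_facts T hS hcG (z := z) (by rw [F.card_cent]; norm_num) (S5566.result hG hJ)
    (fun S hS7 hSz => (S5573.result hG z hz S hS7 hSz).2.2) (fun U _ => (S5575.result hG hJ U).2.2.2.1)
    (fun U => ((S5577.result hG hJ).1 U).2) (S5577.result hG hJ).2.1 (S5577.result hG hJ).2.2.2.1
    (S5577.result hG hJ).2.2.2.2

end Cfsg.Agent.H866.J4Facts
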