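import Cfsg.Agent.H292.RowAll
import Cfsg.Agent.H829.ExcComp
import Cfsg.Agent.H78.TeFour
import Cfsg.Agent.H283.OddSpor
import Cfsg.Agent.H284.AltComp
import Cfsg.Agent.H677.OrdSporIso
import Cfsg.Agent.H478.SporJ4
import Cfsg.Agent.H902.Enum
import Cfsg.Agent.NotCT.Orders
import Cfsg.Agent.OddHalf.Known

/-!
# `J₄` is not a component of the centralizer of an involutory automorphism of a known simple group
-/

set_option autoImplicit false

namespace Cfsg.Agent.H866.J4Comp

open Cfsg Subgroup Cfsg.Agent.SignalizersComponents.Components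
open Cfsg.Agent.H902

universe u v

/-- the order of `J₄` -/
abbrev N4 : ℕ := 86775571046077562880

/-- the primes and the exponents -/
def L4 : List (ℕ × ℕ) :=
  [(2, 21), (3, 3), (5, 1), (7, 1), (11, 3), (23, 1), (29, 1), (31, 1), (37, 1), (43, 1)]

theorem fac4 : N4 = (L4.map fun x => x.1 ^ x.2).prod := by decide +kernel

theorem vals : ∀ x ∈ L4, ∀ a ∈ Art.ents x.1 x.2, Art.val x.1 a ≠ N4 := by decide +kernel

theorem mem_L4 {p : ℕ} (hp : p.Prime) (h : p ∣ N4) : (p, N4.factorization p) ∈ L4 := by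
  have h1 : p ∣ (L4.map fun x => x.1 ^ x.2).prod := by rw [← fac4]; exact h
  obtain ⟨y, hy, hpy⟩ := (hp.prime.dvd_prod_iff).1 h1
  obtain ⟨x, hx, rfl⟩ := List.mem_map.1 hy
  have h2 := hp.dvd_of_dvd_pow hpy
  have key : ∀ x ∈ L4, x.1.Prime ∧ ∃ m, N4 = x.1 ^ x.2 * m ∧ ¬ x.1 ∣ m := by
    intro x hx
    fin_cases hx
    · exact ⟨by norm_num, 41377816699065, by norm_num, by norm_num⟩
    · exact ⟨by norm_num, N4 / 3 ^ 3, by norm_num, by norm_num⟩
    · exact ⟨by norm_num, N4 / 5, by norm_num, by norm_num⟩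
    · exact ⟨by norm_num, N4 / 7, by norm_num, by norm_num⟩
    · exact ⟨by norm_num, N4 / 11 ^ 3, by norm_num, by norm_num⟩
    · exact ⟨by norm_num, N4 / 23, by norm_num, by norm_num⟩
    · exact ⟨by norm_num, N4 / 29, by norm_num, by norm_num⟩
    · exact ⟨by norm_num, N4 / 31, by norm_num, by norm_num⟩
    · exact ⟨by norm_num, N4 / 37, by norm_num, by norm_num⟩
    · exact ⟨by norm_num, N4 / 43, by norm_num, by norm_num⟩
  obtain ⟨hxp, m, hm, hmn⟩ := key x hx
  have h3 : p = x.1 := (Nat.prime_dvd_prime_iff_eq hp hxp).1 h2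
  have h4 : N4.factorization x.1 = x.2 := by
    rw [hm, Nat.factorization_mul (pow_ne_zero _ hxp.ne_zero) (fun h0 => hmn (by rw [h0]; exact dvd_zero _)), hxp.factorization_pow,
      Finsupp.add_apply, Finsupp.single_eq_same, Nat.factorization_eq_zero_of_not_dvd hmn, add_zero]
  rw [h3, h4]
  exact hx

/-- no group of Lie type has the order of `J₄` -/
theorem real_ne {X : Art.Sh} {p f : ℕ} (h : Art.Real X p f N4) : False := by
  have h1 := Art.P_prime_exp h
  have h2 : p ∣ N4 := by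
    by_contra hn
    rw [Nat.factorization_eq_zero_of_not_dvd hn] at h1
    have h3 := Art.NN_pos h
    have h4 := h.hf
    have h5 : 0 < f * Art.NN X := Nat.mul_pos h4 h3
    omega
  exact vals _ (mem_L4 h.hp h2) _ (Art.mem_ents h h1) (Art.val_eq h)

theorem alt_ne {n : ℕ} (h : 2 * N4 = n.factorial) : False := by
  have h1 : ∀ k < 25, 2 * N4 ≠ k.factorial := by decide +kernel
  by_cases hn : n < 25
  · exact h1 n hn h
  · push Not at hn
    have h2 := Nat.factorial_le hn
    rw [← h] at h2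
    exact absurd h2 (by decide +kernel)

theorem n2_ne {g : OrdDiv.Grp} (h : Names.N2 g N4) : False := by
  rcases h with ⟨n, -, -, h⟩ | ⟨X, p, f, -, h⟩
  · exact alt_ne h
  · exact real_ne h

theorem not_simple_iff {A : Type*} [Group A] (h : Spor.IsoJ4 A) {p : ℕ} (hp : p.Prime) (hl : IsLieTypeChar p A) :
    False :=
  H283.SporLie.not_lie hp hl (Or.inl (by unfold IsSporadicGroup; tauto))

theorem exc_ne {A : Type*} [Group A] (hA : Spor.IsoJ4 A) (F : Type) [i : Field F] [j : Fintype F] [c : CharP F 2]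
    (h : (3 ≤ Fintype.card F ∧ Nonempty (A ≃* Lie.chevG2.group F)) ∨ Nonempty (A ≃* Lie.chevF4.group F) ∨
      Nonempty (A ≃* Lie.chevE6.group F) ∨ Nonempty (A ≃* Lie.chevE7.group F) ∨ Nonempty (A ≃* Lie.chevE8.group F)) :
    False := by
  have h1 : IsExceptionalChevChar 2 A := ⟨F, i, j, c, h⟩
  refine not_simple_iff hA Nat.prime_two ?_
  unfold IsLieTypeChar
  exact Or.inr (Or.inr (Or.inr (Or.inr (Or.inr (Or.inr (Or.inl h1))))))

theorem tw_ne {A : Type*} [Group A] (hA : Spor.IsoJ4 A) (h : IsTwistedE6D4Char 2 A ∨ Lie.Iso2F4 A) : False := by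
  refine not_simple_iff hA Nat.prime_two ?_
  unfold IsLieTypeChar
  rcases h with h | h
  · exact Or.inr (Or.inr (Or.inr (Or.inr (Or.inr (Or.inr (Or.inr (Or.inl h)))))))
  · exact Or.inr (Or.inr (Or.inr (Or.inr (Or.inr (Or.inr (Or.inr (Or.inr (Or.inr (Or.inl ⟨rfl, h⟩)))))))))

/-- the exceptional pairs -/
theorem pair_ne {K : Type u} {A : Type v} [Group K] [Group A] (h : H829.ExcComp.Pair K A) (hA : Spor.IsoJ4 A) :
    False := by
  rcases h with h | h | h | h | h
  · obtain ⟨F, F₀, _, _, _, i, j, c, hF, h⟩ := h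
    rcases h with ⟨h3, -, h⟩ | ⟨-, -, L, _, _, hL, h⟩ | ⟨-, h⟩ | ⟨-, h⟩ | ⟨-, h⟩ | ⟨-, h⟩
    · exact exc_ne hA F₀ (Or.inl ⟨h3, h⟩)
    · obtain ⟨p, f, hp, hf, hpf⟩ := Names.exists_pp L
      have hp3 : p = 3 := by
        have h1 : p ∣ 3 ^ 2 := by
          rw [show (3 : ℕ) ^ 2 = 9 from rfl, ← hL, hpf]
          exact dvd_pow_self p (by omega)
        exact (Nat.prime_dvd_prime_iff_eq hp Nat.prime_three).1 (hp.dvd_of_dvd_pow h1)
      subst hp3
      have hch : CharP L 3 := by
        have := Fact.mk Nat.prime_three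
        exact charP_of_card_eq_prime_pow hpf
      refine not_simple_iff hA Nat.prime_three ?_
      have h1 : IsPSUChar 3 A := ⟨L, _, _, hch, 3, 3, by rw [hL]; rfl, le_refl 3, by omega, h⟩
      unfold IsLieTypeChar
      exact Or.inr (Or.inr (Or.inl h1))
    · exact exc_ne hA F₀ (Or.inr (Or.inl h))
    · exact exc_ne hA F₀ (Or.inr (Or.inr (Or.inl h)))
    · exact exc_ne hA F₀ (Or.inr (Or.inr (Or.inr (Or.inl h))))
    · exact exc_ne hA F₀ (Or.inr (Or.inr (Or.inr (Or.inr h))))
  · obtain ⟨F, F₀, _, _, _, i, j, c, q, q₀, hq, -, -, hF, -, h⟩ := h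
    exact tw_ne hA (Or.inl ⟨F₀, i, j, c, q₀, hq, Or.inr ⟨hF, h⟩⟩)
  · obtain ⟨F, i, j, c, m, hF, -, ⟨hm, h⟩ | ⟨-, h⟩⟩ := h
    · exact tw_ne hA (Or.inr ⟨F, i, j, m, hm, hF, h⟩)
    · have h1 := NotCT.Orders.tits h
      rw [NotCT.Orders.j4 hA] at h1
      norm_num at h1
  · obtain ⟨F, i, j, c, -, ⟨q₀, hF, h⟩ | h⟩ := h
    · refine tw_ne hA (Or.inl ⟨F, i, j, c, q₀, ?_, Or.inl ⟨hF, h⟩⟩)
      have h1 := Fintype.isPrimePow_card_of_field (α := F)
      rw [hF] at h1
      exact (isPrimePow_pow_iff (by norm_num)).1 h1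
    · exact exc_ne hA F (Or.inr (Or.inl h))
  · obtain ⟨F, F₀, _, _, _, i, j, c, q, -, -, -, h⟩ := h
    exact exc_ne hA F₀ (Or.inr (Or.inl h))

theorem spor_dvd : ∀ n ∈ H677.OrdAltSpor.sporOrders, N4 ∣ n → n = N4 := by decide +kernel

/-- **`J₄` is not a normal component of the fixed subgroup of an involutory automorphism of a known simple group.** -/
theorem no_comp {X : Type u} [Group X] [Finite X] [IsSimpleGroup X] (hna : ¬ IsMulCommutative X)
    (hk : IsKnownSimple' X) {x : MulAut X} (hxx : x * x = 1) (hx1 : x ≠ 1) {A : Subgroup ↥(fixedSubgroup x)}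
    (hAn : A.Normal) (hA : IsComponent A) (hS : Spor.IsoJ4 ↥A) : False := by
  have hc : Nat.card ↥A = N4 := NotCT.Orders.j4 hS
  have hAs : IsSimpleGroup ↥A := (KFacts.J4.Base.exists_full hS).2.1
  have hZ : center ↥A = ⊥ := by
    rcases IsSimpleGroup.eq_bot_or_eq_top_of_normal (center ↥A) inferInstance with h1 | h1
    · exact h1
    · exact absurd h1 (quasisimple_center_ne_top hA.2)
  have hdvd : N4 ∣ Nat.card X := by
    rw [← hc]
    exact (card_subgroup_dvd_card A).trans (card_subgroup_dvd_card (fixedSubgroup x))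
  have cla : H292.Rows.Cla X → False := by
    intro h
    rcases H292.Rows.row_all h with ⟨g, -, -, h⟩ | h
    · obtain ⟨h', -, -, h2⟩ := h x hxx hx1 A hA
      rw [hc] at h2
      exact n2_ne h2
    · refine H292.Rows.not_eight h A ?_
      obtain ⟨y, hy⟩ := H478.SporJ4.exists_eight hS
      refine ⟨y, by rw [← hy]; exact pow_orderOf_eq_one y, fun h4 => ?_⟩
      have h5 := orderOf_dvd_of_pow_eq_one h4
      rw [hy] at h5
      norm_num at h5
  have spor : IsSporadicGroup X ∨ Lie.IsoTits X → False := by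
    intro h
    have h1 := spor_dvd _ (H677.OrdSporIso.card_mem h) hdvd
    have h2 : Nat.card ↥(fixedSubgroup x) = Nat.card X := by
      apply Nat.dvd_antisymm (card_subgroup_dvd_card _)
      rw [h1, ← hc]
      exact card_subgroup_dvd_card A
    have h3 : fixedSubgroup x = ⊤ := eq_top_of_card_eq _ h2
    apply hx1
    ext a
    have h4 : a ∈ fixedSubgroup x := by rw [h3]; trivial
    exact h4
  rcases OddHalf.Known.classify hna hk with h | ⟨p, hp, hp2, h⟩ | h | h
  · obtain ⟨m, hm, ⟨e⟩⟩ := h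
    obtain ⟨n, k, hn, -, -, ⟨f⟩, -⟩ := H284.AltComp.table hm e hxx hx1 hA
    have hn2 : Nontrivial (Fin n) := Fin.nontrivial_iff_two_le.2 (by omega)
    have h2 : 2 * N4 = n.factorial := by
      rw [← hc, Nat.card_congr f.toEquiv, Nat.card_eq_fintype_card, two_mul_card_alternatingGroup, Fintype.card_perm,
        Fintype.card_fin]
    exact alt_ne h2
  · have hs : IsSporadicGroup (↥A ⧸ center ↥A) := by
      have e : ↥A ⧸ center ↥A ≃* ↥A :=
        (QuotientGroup.quotientMulEquivOfEq hZ).trans QuotientGroup.quotientBot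
      have h1 : Spor.IsoJ4 (↥A ⧸ center ↥A) := by
        obtain ⟨f⟩ := hS
        exact ⟨e.trans f⟩
      unfold IsSporadicGroup
      tauto
    exact H283.OddSpor.no_spor hp hp2 h (by rw [pow_two]; exact hxx) hA hs
  · rcases h with h | h
    · rcases h with h | h | h | h | h | h | h | h | ⟨-, h⟩ | ⟨-, h⟩ | ⟨h, -⟩
      · exact cla (Or.inl h)
      · exact cla (Or.inr (Or.inr (Or.inl h)))
      · exact cla (Or.inr (Or.inl h))
      · obtain ⟨F, i, j, c, m, -, ho, -⟩ := h
        obtain ⟨p, f, hp, hf, hpf⟩ := Names.exists_pp F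
        have h2 : p = 2 := by
          have h3 : CharP F p := by
            have := Fact.mk hp
            exact charP_of_card_eq_prime_pow hpf
          exact CharP.eq F h3 c
        rw [hpf, h2] at ho
        have h4 : Even (2 ^ f) := (Nat.even_pow.2 ⟨even_two, by omega⟩)
        exact (Nat.not_even_iff_odd.2 ho) h4
      · exact cla (Or.inr (Or.inr (Or.inr (Or.inl h))))
      · exact cla (Or.inr (Or.inr (Or.inr (Or.inr h))))
      · exact pair_ne (H78.TeFour.exc_comp hna (Or.inl h) x (by rw [pow_two]; exact hxx) hx1 A hA) hS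
      · exact pair_ne (H78.TeFour.exc_comp hna (Or.inr (Or.inl h)) x (by rw [pow_two]; exact hxx) hx1 A hA) hS
      · exact pair_ne (H78.TeFour.exc_comp hna (Or.inr (Or.inr (Or.inl h))) x (by rw [pow_two]; exact hxx) hx1 A hA) hS
      · exact pair_ne (H78.TeFour.exc_comp hna (Or.inr (Or.inr (Or.inr h))) x (by rw [pow_two]; exact hxx) hx1 A hA) hS
      · omega
    · exact spor (Or.inr h)
  · exact spor (Or.inl h)

end Cfsg.Agent.H866.J4Comp
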