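import Cfsg.Agent.H866.J4Odd
import Cfsg.Agent.Transfer.PGroupNormal
import Cfsg.Prelude.Def_Transfer

/-!
# The normalizers of the Sylow `11`-subgroups of `J4` are maximal (helper866)
-/

set_option autoImplicit false
set_option linter.unusedSectionVars false

namespace Cfsg.Agent.H866.J4Eleven

open Cfsg Subgroup
open Cfsg.Agent.OrdDiv
open scoped commutatorElement
open Cfsg.Agent.H866.J4Ord Cfsg.Agent.H866.J4Min Cfsg.Agent.H866.OddTools Cfsg.Agent.H866.J4Odd
open Cfsg.Agent.OddOrderLocal.SylIn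

universe u

/-! ### tools -/

theorem dvd_of_stab {A X : Type*} [Group A] [Finite A] [Finite X] [MulAction A X] {d : ℕ}
    (h : ∀ x : X, d ∣ (MulAction.stabilizer A x).index) : d ∣ Nat.card X := by
  classical
  rw [Nat.card_congr (MulAction.selfEquivSigmaOrbitsQuotientStabilizer A X)]
  have := Fintype.ofFinite (Quotient (MulAction.orbitRel A X))
  rw [Nat.card_sigma]
  refine Finset.dvd_sum fun w _ => ?_
  exact h _

/-- an element of order dividing four normalizing a group of order eleven: the square centralizes it -/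
theorem sq_mem_centralizer {G : Type*} [Group G] [Finite G] {Y : Subgroup G} {x : G}
    (hx : x ∈ normalizer (Y : Set G)) (hY : Nat.card Y = 11) (hx4 : x ^ 4 = 1) :
    x ^ 2 ∈ centralizer (Y : Set G) := by
  have hq : Nat.Prime 11 := by norm_num
  have : Fact (Nat.Prime 11) := ⟨hq⟩
  have hcy : IsCyclic Y := isCyclic_of_prime_card hY
  have h1 : Nat.card (MulAut Y) = 10 := by rw [hcy.card_mulAut, hY, Nat.totient_prime hq]
  have h2 : Y.normalizerMonoidHom ⟨x, hx⟩ ^ 2 = 1 := by
    have h3 : orderOf (Y.normalizerMonoidHom ⟨x, hx⟩) ∣ 4 := by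
      rw [orderOf_dvd_iff_pow_eq_one, ← map_pow]
      have h4 : (⟨x, hx⟩ : normalizer (Y : Set G)) ^ 4 = 1 := Subtype.ext hx4
      rw [h4, map_one]
    have h4 : orderOf (Y.normalizerMonoidHom ⟨x, hx⟩) ∣ 10 := h1 ▸ orderOf_dvd_natCard _
    rw [← orderOf_dvd_iff_pow_eq_one]
    exact (Nat.dvd_gcd h3 h4).trans (by norm_num)
  rw [mem_centralizer_iff]
  intro y hy
  have h6 : (Y.normalizerMonoidHom ⟨x, hx⟩ ^ 2) ⟨y, hy⟩ = ⟨y, hy⟩ := by rw [h2]; rfl
  rw [← map_pow] at h6
  have h7 : x ^ 2 * y * (x ^ 2)⁻¹ = y := congrArg Subtype.val h6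
  exact (mul_inv_eq_iff_eq_mul.1 h7).symm

/-- the same for a factor of order eleven -/
theorem sq_factor {G : Type*} [Group G] [Finite G] {A B : Subgroup G} (hBA : B ≤ A) (hAn : A ≤ normalizer (B : Set G))
    (hc : Nat.card A = 11 * Nat.card B) {x : G} (hxA : x ∈ normalizer (A : Set G)) (hxB : x ∈ normalizer (B : Set G))
    (hx4 : x ^ 4 = 1) : ∀ a ∈ A, x ^ 2 * a * (x ^ 2)⁻¹ * a⁻¹ ∈ B := by
  intro a ha
  let N := normalizer (B : Set G)
  let B' : Subgroup N := B.subgroupOf N
  have hB' : B'.Normal := Subgroup.normal_in_normalizer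
  let π := QuotientGroup.mk' B'
  let A' : Subgroup (N ⧸ B') := (A.subgroupOf N).map π
  have h1 : Nat.card A' = 11 := by
    have h2 : B'.relIndex (A.subgroupOf N) = Nat.card A' := by
      have h3 := Subgroup.relIndex_ker (K := A.subgroupOf N) π
      rwa [QuotientGroup.ker_mk'] at h3
    rw [← h2, Subgroup.relIndex_subgroupOf hAn]
    have h4 := card_mul_relIndex hBA
    rw [hc, mul_comm] at h4
    exact Nat.eq_of_mul_eq_mul_right Nat.card_pos h4
  have h2 : π ⟨x, hxB⟩ ∈ normalizer (A' : Set (N ⧸ B')) := by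
    have h3 : (⟨x, hxB⟩ : N) ∈ normalizer ((A.subgroupOf N : Subgroup N) : Set N) := by
      rw [mem_normalizer_iff]
      intro y
      rw [mem_subgroupOf, mem_subgroupOf]
      exact (mem_normalizer_iff.1 hxA) y
    exact Subgroup.le_normalizer_map π ⟨_, h3, rfl⟩
  have h0 : (⟨x, hxB⟩ : N) ^ 4 = 1 := Subtype.ext hx4
  have h3 := sq_mem_centralizer h2 h1 (by rw [← map_pow, h0, map_one])
  rw [mem_centralizer_iff] at h3
  have h4 := h3 (π ⟨a, hAn ha⟩) ⟨⟨a, hAn ha⟩, ha, rfl⟩
  rw [← map_pow, ← map_mul, ← map_mul] at h4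
  have h5 := QuotientGroup.eq.1 h4.symm
  rw [mem_subgroupOf] at h5
  have h6 : (x ^ 2 * a)⁻¹ * (a * x ^ 2) ∈ B := h5
  have h7 := B.inv_mem h6
  have h8 : x ^ 2 * a * (x ^ 2)⁻¹ * a⁻¹ = (a * x ^ 2) * ((x ^ 2 * a)⁻¹ * (a * x ^ 2))⁻¹ * (a * x ^ 2)⁻¹ := by group
  have h9 : a * x ^ 2 ∈ normalizer (B : Set G) := mul_mem (hAn ha) (pow_mem hxB 2)
  rw [h8]
  exact (mem_normalizer_iff.1 h9 _).1 h7

/-! ### an extraspecial group of order `11 ^ 3` -/

/-- the facts on a Sylow `11`-subgroup -/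
structure Eleven {G : Type u} [Group G] [Finite G] (U : Subgroup G) : Prop where
  card : Nat.card U = 11 ^ 3
  ext : IsExtraspecial 11 U
  cent : centralizer (U : Set G) ≤ U
  norm : normalizer (((center U).map U.subtype : Subgroup G) : Set G) ≤ normalizer (U : Set G)
  four : ∃ x ∈ normalizer (U : Set G), orderOf x = 4

variable {G : Type u} [Group G] [Finite G] {U : Subgroup G}

/-- the centre -/
abbrev Z (U : Subgroup G) : Subgroup G := (center U).map U.subtype

theorem Z_le : Z U ≤ U := Subgroup.map_subtype_le _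

theorem mem_Z {z : G} : z ∈ Z U ↔ z ∈ U ∧ ∀ u ∈ U, u * z = z * u := by
  constructor
  · rintro ⟨z, hz, rfl⟩
    exact ⟨z.2, fun u hu => congrArg Subtype.val (mem_center_iff.1 hz ⟨u, hu⟩)⟩
  · rintro ⟨h1, h2⟩
    exact ⟨⟨z, h1⟩, mem_center_iff.2 fun u => Subtype.ext (h2 u u.2), rfl⟩

theorem Eleven.card_Z (E : Eleven U) : Nat.card (Z U) = 11 := by
  rw [Subgroup.card_map_of_injective U.subtype_injective]
  exact E.ext.2

theorem norm_le_norm_Z : normalizer (U : Set G) ≤ normalizer (Z U : Set G) := by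
  intro x hx
  rw [mem_normalizer_iff]
  intro z
  rw [mem_Z, mem_Z, ← (mem_normalizer_iff.1 hx z)]
  refine and_congr_right fun _ => ⟨fun h u hu => ?_, fun h u hu => ?_⟩
  · have h1 : x⁻¹ * u * x ∈ U := by
      have := (mem_normalizer_iff.1 (inv_mem hx) u).1 hu
      rwa [inv_inv] at this
    calc u * (x * z * x⁻¹) = x * ((x⁻¹ * u * x) * z) * x⁻¹ := by group
      _ = x * z * x⁻¹ * u := by rw [h _ h1]; group
  · have h1 : x * u * x⁻¹ ∈ U := (mem_normalizer_iff.1 hx u).1 hu
    have h2 := h _ h1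
    calc u * z = x⁻¹ * ((x * u * x⁻¹) * (x * z * x⁻¹)) * x := by group
      _ = z * u := by rw [h2]; group

theorem Eleven.isPGroup (E : Eleven U) : IsPGroup 11 U := E.ext.1.1

/-- the commutators of `U` lie in the centre -/
theorem Eleven.comm_mem (E : Eleven U) {u v : G} (hu : u ∈ U) (hv : v ∈ U) : u * v * u⁻¹ * v⁻¹ ∈ Z U := by
  have h1 : ⁅(⟨u, hu⟩ : U), (⟨v, hv⟩ : U)⁆ ∈ center U := by
    rw [← E.ext.1.2.2]
    exact Subgroup.commutator_mem_commutator (mem_top _) (mem_top _)
  exact ⟨_, h1, rfl⟩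

/-- an element normalizing `U` and acting trivially on `U / Z` centralizes `Z` -/
theorem Eleven.cent_Z (E : Eleven U) {x : G} (h : ∀ u ∈ U, x * u * x⁻¹ * u⁻¹ ∈ Z U) : x ∈ centralizer (Z U : Set G) := by
  let C : Subgroup U := (centralizer ({x} : Set G)).subgroupOf U
  have h1 : commutator U ≤ C := by
    rw [commutator_def, Subgroup.commutator_le]
    rintro ⟨u, hu⟩ - ⟨v, hv⟩ -
    rw [mem_subgroupOf, mem_centralizer_singleton_iff]
    change u * v * u⁻¹ * v⁻¹ * x = x * (u * v * u⁻¹ * v⁻¹)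
    obtain ⟨-, hz1⟩ := mem_Z.1 (h u hu)
    obtain ⟨-, hz2⟩ := mem_Z.1 (h v hv)
    set z1 := x * u * x⁻¹ * u⁻¹ with hz1d
    set z2 := x * v * x⁻¹ * v⁻¹ with hz2d
    have e1 : x * u * x⁻¹ = z1 * u := by rw [hz1d]; group
    have e2 : x * v * x⁻¹ = z2 * v := by rw [hz2d]; group
    have c1 : z1⁻¹ * v⁻¹ = v⁻¹ * z1⁻¹ := by
      rw [← mul_inv_rev, ← mul_inv_rev, hz1 v hv]
    have c2 := hz2 u hu
    have hz1U : z1 ∈ U := Z_le (h u hu)
    have hz2U : z2 ∈ U := Z_le (h v hv)
    have c5 : z1 * z2 = z2 * z1 := hz2 z1 hz1U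
    have hw : u * v * u⁻¹ * v⁻¹ ∈ U := mul_mem (mul_mem (mul_mem hu hv) (inv_mem hu)) (inv_mem hv)
    have c6 : z1 * z2 * (u * v * u⁻¹ * v⁻¹) = u * v * u⁻¹ * v⁻¹ * (z1 * z2) := by
      rw [mul_assoc, ← hz2 _ hw, ← mul_assoc, ← hz1 _ hw, mul_assoc]
    have e3 : x * (u * v * u⁻¹ * v⁻¹) * x⁻¹ = u * v * u⁻¹ * v⁻¹ := by
      calc x * (u * v * u⁻¹ * v⁻¹) * x⁻¹ =
          (x * u * x⁻¹) * (x * v * x⁻¹) * (x * u * x⁻¹)⁻¹ * (x * v * x⁻¹)⁻¹ := by group
        _ = (z1 * u) * (z2 * v) * (z1 * u)⁻¹ * (z2 * v)⁻¹ := by rw [e1, e2]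
        _ = z1 * (u * z2) * v * u⁻¹ * (z1⁻¹ * v⁻¹) * z2⁻¹ := by group
        _ = z1 * (z2 * u) * v * u⁻¹ * (v⁻¹ * z1⁻¹) * z2⁻¹ := by rw [c2, c1]
        _ = z1 * z2 * (u * v * u⁻¹ * v⁻¹) * (z1⁻¹ * z2⁻¹) := by group
        _ = u * v * u⁻¹ * v⁻¹ * (z1 * z2) * (z1⁻¹ * z2⁻¹) := by rw [c6]
        _ = u * v * u⁻¹ * v⁻¹ * (z2 * z1) * (z1⁻¹ * z2⁻¹) := by rw [c5]
        _ = u * v * u⁻¹ * v⁻¹ := by group
    exact (mul_inv_eq_iff_eq_mul.1 e3).symm
  rw [mem_centralizer_iff]
  rintro _ ⟨z, hz, rfl⟩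
  have h2 := h1 (by rw [E.ext.1.2.2]; exact hz : z ∈ commutator U)
  exact mem_centralizer_singleton_iff.1 (mem_subgroupOf.1 h2)

instance fact11 : Fact (Nat.Prime 11) := ⟨by norm_num⟩

theorem Eleven.Z_le_of (E : Eleven U) {R : Subgroup G} (hn : U ≤ normalizer (R : Set G)) (h : R ⊓ U ≠ ⊥) :
    Z U ≤ R := by
  have hN : (R.subgroupOf U).Normal := by
    refine ⟨fun r hr g => ?_⟩
    rw [mem_subgroupOf] at hr ⊢
    exact ((mem_normalizer_iff.1 (hn g.2)) _).1 hr
  have h0 : R.subgroupOf U ≠ ⊥ := by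
    intro h0
    apply h
    rw [← Subgroup.subgroupOf_map_subtype, h0, Subgroup.map_bot]
  obtain ⟨z, hz, hzc, hzo⟩ := Transfer.PGroupNormal.exists_mem_inf_center_orderOf E.isPGroup (R.subgroupOf U) h0
  have h1 : Subgroup.zpowers (z : G) ≤ R := Subgroup.zpowers_le.2 hz
  have h2 : Subgroup.zpowers (z : G) ≤ Z U := Subgroup.zpowers_le.2 ⟨z, hzc, rfl⟩
  have h3 : Nat.card (Subgroup.zpowers (z : G)) = 11 := by rw [Nat.card_zpowers, Subgroup.orderOf_coe, hzo]
  have h4 : Subgroup.zpowers (z : G) = Z U := Subgroup.eq_of_le_of_card_ge h2 (by rw [h3, E.card_Z])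
  rw [← h4]
  exact h1

theorem Eleven.stab (E : Eleven U) (S : Subgroup U) (h : S ⊓ center U = ⊥) : 121 ∣ S.index := by
  obtain ⟨j, hj⟩ := IsPGroup.iff_card.1 (E.isPGroup.to_subgroup S)
  have h1 := S.card_mul_index
  rw [E.card, hj] at h1
  have hS : S.Normal → S ≠ ⊥ → False := fun hn h0 => by
    obtain ⟨z, hz, hzc, hzo⟩ := Transfer.PGroupNormal.exists_mem_inf_center_orderOf E.isPGroup S h0
    have h3 : z ∈ S ⊓ center U := ⟨hz, hzc⟩
    rw [h, mem_bot] at h3
    rw [h3, orderOf_one] at hzo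
    omega
  have hj3 : j ≤ 3 := by
    have h2 : 11 ^ j ∣ 11 ^ 3 := h1 ▸ Dvd.intro _ rfl
    exact (Nat.pow_dvd_pow_iff_le_right (by norm_num)).1 h2
  have h0 : S ≠ ⊥ ∨ j = 0 := by
    by_cases h0 : S = ⊥
    · right
      rw [h0, Subgroup.card_bot] at hj
      by_contra h3
      have h4 : 11 ^ 1 ≤ 11 ^ j := Nat.pow_le_pow_right (by norm_num) (by omega)
      omega
    · exact Or.inl h0
  interval_cases j
  · exact ⟨11, by omega⟩
  · exact ⟨1, by omega⟩
  · exfalso
    have h2 : S.index = 11 := by omega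
    refine hS (Subgroup.normal_of_index_eq_minFac_card ?_) (h0.resolve_right (by norm_num))
    rw [h2, E.card, Nat.Prime.pow_minFac (by norm_num) (by norm_num)]
  · exfalso
    have h2 : S.index = 1 := by omega
    have h3 : S = ⊤ := Subgroup.index_eq_one.1 h2
    refine hS (h3 ▸ inferInstance) (h0.resolve_right (by norm_num))

/-- if the centre acts without fixed points on `R` then `121` divides `|R| - 1` -/
theorem Eleven.dvd_sub_one (E : Eleven U) {R : Subgroup G} (hn : U ≤ normalizer (R : Set G))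
    (h : R ⊓ centralizer (Z U : Set G) = ⊥) : 121 ∣ Nat.card R - 1 := by
  let _ : MulAction U {v : R // v ≠ 1} :=
    { smul := fun u v => ⟨⟨(u : G) * v.1 * (u : G)⁻¹, ((mem_normalizer_iff.1 (hn u.2)) _).1 v.1.2⟩, fun h0 => v.2 (by
        have h1 : (u : G) * v.1 * (u : G)⁻¹ = 1 := congrArg Subtype.val h0
        have h2 : (v.1 : G) = 1 := by
          have h3 : (v.1 : G) = (u : G)⁻¹ * ((u : G) * v.1 * (u : G)⁻¹) * u := by group
          rw [h3, h1]; group
        exact Subtype.ext h2)⟩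
      one_smul := fun v => Subtype.ext (Subtype.ext (by change (1 : G) * v.1 * (1 : G)⁻¹ = v.1; simp))
      mul_smul := fun a b v => Subtype.ext (Subtype.ext (by
        change ((a : G) * b) * v.1 * ((a : G) * b)⁻¹ = a * (b * v.1 * (b : G)⁻¹) * (a : G)⁻¹
        group)) }
  have h1 : Nat.card {v : R // v ≠ 1} = Nat.card R - 1 := by
    classical
    have := Fintype.ofFinite R
    rw [Nat.card_eq_fintype_card, Nat.card_eq_fintype_card, Fintype.card_subtype_compl, Fintype.card_subtype_eq]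
  rw [← h1]
  refine dvd_of_stab (A := U) fun v => E.stab _ ?_
  rw [eq_bot_iff]
  rintro z ⟨hz, hzc⟩
  rw [mem_bot]
  by_contra hz1
  -- `z` generates the centre
  have h2 : Subgroup.zpowers (z : G) = Z U := by
    have h3 : Subgroup.zpowers (z : G) ≤ Z U := Subgroup.zpowers_le.2 ⟨z, hzc, rfl⟩
    have h4 := Subgroup.card_dvd_of_le h3
    rw [E.card_Z] at h4
    rcases (Nat.dvd_prime (by norm_num)).1 h4 with h5 | h5
    · exfalso
      have h6 := Subgroup.card_eq_one.1 h5
      rw [Subgroup.zpowers_eq_bot] at h6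
      exact hz1 (Subtype.ext h6)
    · exact Subgroup.eq_of_le_of_card_ge h3 (by rw [h5, E.card_Z])
  have h3 : (z : G) * v.1 * (z : G)⁻¹ = v.1 := congrArg (fun w : {v : R // v ≠ 1} => (w.1 : G)) hz
  have h4 : (v.1 : G) ∈ R ⊓ centralizer (Z U : Set G) := by
    refine ⟨v.1.2, ?_⟩
    rw [← h2]
    change (v.1 : G) ∈ centralizer ((Subgroup.zpowers (z : G) : Subgroup G) : Set G)
    rw [Subgroup.mem_centralizer_iff]
    rintro _ ⟨k, rfl⟩
    have h5 : Commute (z : G) v.1 := mul_inv_eq_iff_eq_mul.1 h3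
    exact (h5.zpow_left k).eq
  rw [h, mem_bot] at h4
  exact v.2 (Subtype.ext h4)

theorem Eleven.ne_bot (E : Eleven U) : U ≠ ⊥ := by
  rintro rfl
  have := E.card
  rw [Subgroup.card_bot] at this
  norm_num at this

theorem comm_sq {t u : G} (ht : t * t = 1) (h : t * (t * u * t⁻¹ * u⁻¹) * t⁻¹ = t * u * t⁻¹ * u⁻¹) :
    (t * u * t⁻¹ * u⁻¹) * (t * u * t⁻¹ * u⁻¹) = 1 := by
  have ht' : t⁻¹ = t := inv_eq_of_mul_eq_one_left ht
  have h1 : t * (t * u * t⁻¹ * u⁻¹) * t⁻¹ * (t * u * t⁻¹ * u⁻¹) = 1 := by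
    have h2 : t * (t * u * t⁻¹ * u⁻¹) * t⁻¹ * (t * u * t⁻¹ * u⁻¹) = (t * t) * u * (t * t)⁻¹ * u⁻¹ := by group
    rw [h2, ht]; group
  rwa [h] at h1

theorem Eleven.eq_one (E : Eleven U) {c : G} (hc : c ∈ U) (h : c * c = 1) : c = 1 := by
  have h1 : orderOf c ∣ 2 := orderOf_dvd_of_pow_eq_one (by rw [pow_two, h])
  have h2 : orderOf c ∣ 11 ^ 3 := by
    rw [← E.card, ← Subgroup.orderOf_mk c hc]
    exact orderOf_dvd_natCard _
  exact orderOf_eq_one_iff.1 (Nat.eq_one_of_dvd_coprimes (by norm_num) h1 h2)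

/-- no normal elementary abelian subgroup of order `121` -/
theorem Eleven.no_121 (E : Eleven U) {R : Subgroup G} (hRU : R ≤ U) (hZR : Z U ≤ R) (hR : Nat.card R = 11 ^ 2)
    (hn : normalizer (U : Set G) ≤ normalizer (R : Set G)) : False := by
  obtain ⟨y, hy, hy4⟩ := E.four
  have hy4' : y ^ 4 = 1 := hy4 ▸ pow_orderOf_eq_one y
  have hUn : U ≤ normalizer (R : Set G) := Subgroup.le_normalizer.trans hn
  have hUz : U ≤ normalizer (Z U : Set G) := Subgroup.le_normalizer.trans norm_le_norm_Z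
  have f1 := sq_factor (A := Z U) (B := ⊥) bot_le (by rw [Subgroup.normalizer_eq_top]; exact le_top)
    (by rw [E.card_Z, Subgroup.card_bot]) (norm_le_norm_Z hy) (by rw [Subgroup.normalizer_eq_top]; exact mem_top y) hy4'
  have f2 := sq_factor hZR (hRU.trans hUz) (by rw [hR, E.card_Z]; norm_num) (hn hy) (norm_le_norm_Z hy) hy4'
  have f3 := sq_factor hRU hUn (by rw [hR, E.card]; norm_num) hy (hn hy) hy4'
  set t := y ^ 2 with htd
  have ht : t * t = 1 := by rw [htd, ← pow_add]; exact hy4'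
  have hR1 : ∀ r ∈ R, t * r * t⁻¹ = r := by
    intro r hr
    have h1 := f2 r hr
    have h2 := f1 _ h1
    rw [mem_bot] at h2
    have h3 := comm_sq ht (mul_inv_eq_one.1 h2)
    exact mul_inv_eq_one.1 (E.eq_one (Z_le h1) h3)
  have hU1 : ∀ u ∈ U, t * u * t⁻¹ = u := by
    intro u hu
    have h1 := f3 u hu
    have h3 := comm_sq ht (hR1 _ h1)
    exact mul_inv_eq_one.1 (E.eq_one (hRU h1) h3)
  have h1 : t ∈ U := by
    apply E.cent
    rw [mem_centralizer_iff]
    intro u hu
    exact (mul_inv_eq_iff_eq_mul.1 (hU1 u hu)).symm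
  have h2 := E.eq_one h1 ht
  have h3 := orderOf_dvd_of_pow_eq_one h2
  rw [hy4] at h3
  norm_num at h3

/-- **the prime `11`** -/
theorem coatom_11 (F : Facts G) (E : Eleven U) : IsCoatom (normalizer (U : Set G)) := by
  have hN := F.n11 U E.card
  refine ⟨fun h0 => ?_, fun H hH => ?_⟩
  · rw [h0, Subgroup.card_top, F.card] at hN
    norm_num [nJ] at hN
  by_contra hHt
  have hUH : U ≤ H := Subgroup.le_normalizer.trans hH.le
  have hnH : ¬ H ≤ normalizer (U : Set G) := fun h0 => absurd (le_antisymm hH.le h0) hH.ne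
  have hH1 : H ≠ ⊥ := by
    rintro rfl
    exact hnH bot_le
  have hp4 : ¬ 11 ^ 4 ∣ nJ := by norm_num [nJ]
  have hsyl : ∀ X : Subgroup G, U ≤ X → IsSyl 11 U X := fun X hX => by
    refine ⟨hX, E.isPGroup, fun h => hp4 ?_⟩
    have h1 := card_mul_relIndex hX
    obtain ⟨c, hc⟩ := h
    have h2 : 11 ^ 4 ∣ Nat.card X := ⟨c, by rw [← h1, E.card, hc]; ring⟩
    exact h2.trans (F.dvd X)
  obtain ⟨R, hRH, hR, hn, -, h⟩ := exists_min F.tab F.known (F.card ▸ dvd_rfl) H hH1
  have hnU : U ≤ normalizer (R : Set G) := hUH.trans hn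
  have hZN : centralizer (Z U : Set G) ≤ normalizer (U : Set G) :=
    (Subgroup.centralizer_le_normalizer _).trans E.norm
  rcases h with ⟨r, hr, h⟩ | ⟨h1, h2, h3⟩
  · obtain ⟨x, hx, j, hj1, hj2, hj3, rfl, hj⟩ := F.ea_card hR hr h
    have hr' : Fact (x.1).Prime := ⟨hr⟩
    by_cases h11 : x.1 = 11
    · -- `R` is an 11-group
      rw [h11] at hj h
      have hR11 : IsPGroup 11 R := IsPGroup.of_card hj
      have hRU : R ≤ U := by
        obtain ⟨y, hy, h4⟩ := (hsyl H hUH).exists_conj_le hRH hR11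
        intro r hr
        have h5 : y⁻¹ * r * y ∈ R := by
          have := (mem_normalizer_iff.1 (inv_mem (hn hy)) r).1 hr
          rwa [inv_inv] at this
        have h6 := h4 ⟨y⁻¹ * r * y, h5, rfl⟩
        have h7 : y * (y⁻¹ * r * y) * y⁻¹ = r := by group
        rw [← h7]
        exact h6
      have hZR : Z U ≤ R := E.Z_le_of hnU (by rwa [inf_eq_left.2 hRU])
      have hj3 : j ≤ 3 := by
        have h4 := Subgroup.card_dvd_of_le hRU
        rw [hj, E.card] at h4
        exact (Nat.pow_dvd_pow_iff_le_right (by norm_num)).1 h4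
      have hj' : j = 1 ∨ j = 2 ∨ j = 3 := by omega
      rcases hj' with rfl | rfl | rfl
      · have h4 : Z U = R := Subgroup.eq_of_le_of_card_ge hZR (by rw [hj, E.card_Z]; norm_num)
        apply hnH
        rw [← h4] at hn
        exact hn.trans E.norm
      · exact E.no_121 hRU hZR hj (hH.le.trans hn)
      · have h4 : R = U := Subgroup.eq_of_le_of_card_ge hRU (by rw [hj, E.card])
        have h5 : U ≤ Z U := by
          intro u hu
          refine mem_Z.2 ⟨hu, fun v hv => ?_⟩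
          rw [← h4] at hu hv
          exact congrArg Subtype.val (h.1.is_comm.comm (⟨v, hv⟩ : R) ⟨u, hu⟩)
        have h6 := Subgroup.card_dvd_of_le h5
        rw [E.card, E.card_Z] at h6
        norm_num at h6
    · have hRU : R ⊓ U = ⊥ := by
        have h4 := Subgroup.card_dvd_of_le (inf_le_left : R ⊓ U ≤ R)
        have h5 := Subgroup.card_dvd_of_le (inf_le_right : R ⊓ U ≤ U)
        rw [hj] at h4
        rw [E.card] at h5
        refine Subgroup.card_eq_one.1 (Nat.eq_one_of_dvd_coprimes ?_ h4 h5)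
        exact Nat.Coprime.pow _ _ ((Nat.coprime_primes hr (by norm_num)).2 h11)
      have hRC : ∀ W : Subgroup G, W ≤ R → W ⊓ centralizer (U : Set G) = ⊥ := fun W hW => by
        rw [eq_bot_iff, ← hRU]
        exact inf_le_inf hW E.cent
      have h4 := card_mod_one E.isPGroup hnU (hRC R le_rfl)
      rw [hj] at h4
      have h5 : (x.1 = 2 ∧ j = 10) ∨ (x.1 = 23 ∧ j = 1) := by
        simp only [lJ, List.mem_cons, List.not_mem_nil, or_false] at hx
        rcases hx with rfl | rfl | rfl | rfl | rfl | rfl | rfl | rfl | rfl | rfl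
        · simp only [forall_true_left] at hj3
          interval_cases j <;> simp_all
        all_goals
          simp only at hj2
          interval_cases j <;> simp_all
      rcases h5 with ⟨h5, rfl⟩ | ⟨h5, rfl⟩
      · rw [h5] at hj
        have h6 : R ⊓ centralizer (Z U : Set G) ≠ ⊥ := fun h0 => by
          have h7 := E.dvd_sub_one hnU h0
          rw [hj] at h7
          norm_num at h7
        have h7 : U ≤ normalizer ((R ⊓ centralizer (Z U : Set G) : Subgroup G) : Set G) := by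
          intro u hu
          have h8 : u ∈ centralizer (Z U : Set G) := by
            rw [mem_centralizer_iff]
            intro z hz
            exact ((mem_Z.1 hz).2 u hu).symm
          rw [mem_normalizer_iff]
          intro g
          rw [mem_inf, mem_inf, mem_normalizer_iff.1 (hnU hu) g]
          exact and_congr_right fun _ => mem_normalizer_iff.1 (Subgroup.le_normalizer h8) g
        have h8 := card_mod_one E.isPGroup h7 (hRC _ inf_le_left)
        have h9 := Subgroup.card_dvd_of_le (inf_le_left : R ⊓ centralizer (Z U : Set G) ≤ R)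
        rw [hj] at h9
        obtain ⟨i, hi, hi'⟩ := (Nat.dvd_prime_pow (by norm_num)).1 h9
        rw [hi'] at h8
        have h10 : i = 0 ∨ i = 10 := by
          interval_cases i <;> simp_all
        rcases h10 with rfl | rfl
        · exact h6 (Subgroup.card_eq_one.1 hi')
        · have h11 := Subgroup.card_dvd_of_le ((inf_le_right : R ⊓ centralizer (Z U : Set G) ≤ _).trans hZN)
          rw [hi', hN] at h11
          norm_num at h11
      · rw [h5] at hj
        have h6 := F.n23 R (by rw [hj]; norm_num)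
        have h7 := Subgroup.card_dvd_of_le hnU
        rw [E.card, h6] at h7
        norm_num at h7
  · by_cases h11 : 11 ∣ Nat.card R
    · obtain ⟨Q, hQ⟩ := exists_isSyl 11 R
      obtain ⟨y, hy, h4⟩ := (hsyl H hUH).exists_conj_le (hQ.le.trans hRH) hQ.isPGroup
      have h4' : Q.map (MulAut.conj y).toMonoidHom ≤ R := by
        rintro _ ⟨q, hq, rfl⟩
        exact (mem_normalizer_iff.1 (hn hy) q).1 (hQ.le hq)
      have hcQ : Nat.card (Q.map (MulAut.conj y).toMonoidHom) = Nat.card Q :=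
        Subgroup.card_map_of_injective (MulAut.conj y).injective
      rcases ords_eleven _ h3 h11 with ⟨h5, h6⟩ | h5
      · have hQc : 11 ^ 3 ∣ Nat.card Q := by
          have h7 := card_mul_relIndex hQ.le
          rw [← h7] at h5
          refine Nat.Coprime.dvd_of_dvd_mul_right ?_ h5
          exact Nat.Coprime.pow_left _ ((Nat.Prime.coprime_iff_not_dvd (by norm_num)).2 hQ.not_dvd)
        have hUR : U ≤ R := by
          have h7 : Q.map (MulAut.conj y).toMonoidHom = U :=
            Subgroup.eq_of_le_of_card_ge h4 (by rw [hcQ, E.card]; exact Nat.le_of_dvd Nat.card_pos hQc)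
          rw [← h7]
          exact h4'
        rcases h6 with h6 | h6
        · have h7 := frattini_card hRH hn (hsyl R hUR)
          rw [(F.card_n11 h6 (hsyl R hUR)).2, inf_eq_left.2 hH.le, hN, h6] at h7
          have : Fact (Nat.Prime 37) := ⟨by norm_num⟩
          obtain ⟨P, hP⟩ := exists_isSyl 37 R
          have hPc : Nat.card P = 37 := card_of_isSyl (by norm_num) hP (by rw [h6]; norm_num) (by rw [h6]; norm_num)
          have h8 := frattini_card hRH hn hP
          rw [F.card_n37 h6 hPc hP, h6] at h8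
          have h9 := Subgroup.card_dvd_of_le (inf_le_left : normalizer (P : Set G) ⊓ H ≤ normalizer (P : Set G))
          rw [F.n37 P hPc] at h9
          have h10 : Nat.card (normalizer (P : Set G) ⊓ H : Subgroup G) = 666 := by
            norm_num at h7
            omega
          rw [h10] at h9
          norm_num at h9
        · exact hHt (top_le_iff.1 (F.eq_top h6 ▸ hRH))
      · have h6 : R ⊓ U ≠ ⊥ := fun h0 => by
          have h7 : Q.map (MulAut.conj y).toMonoidHom ≤ ⊥ := h0 ▸ le_inf h4' h4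
          rw [le_bot_iff] at h7
          rw [h7, Subgroup.card_bot] at hcQ
          have h8 := card_mul_relIndex hQ.le
          rw [← hcQ, one_mul] at h8
          exact hQ.not_dvd (h8 ▸ h11)
        have hZR := E.Z_le_of hnU h6
        have hRU : R ⊓ U = Z U := by
          refine (Subgroup.eq_of_le_of_card_ge (le_inf hZR Z_le) ?_).symm
          have h7 := Subgroup.card_dvd_of_le (inf_le_right : R ⊓ U ≤ U)
          have h8 := Subgroup.card_dvd_of_le (inf_le_left : R ⊓ U ≤ R)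
          rw [E.card] at h7
          obtain ⟨i, hi, hi'⟩ := (Nat.dvd_prime_pow (by norm_num)).1 h7
          have hi1 : i ≤ 1 := by
            by_contra h0
            apply h5
            have h9 : 11 ^ 2 ∣ Nat.card R := (pow_dvd_pow _ (by omega : 2 ≤ i)).trans (hi' ▸ h8)
            exact h9
          rw [hi', E.card_Z]
          calc 11 ^ i ≤ 11 ^ 1 := Nat.pow_le_pow_right (by norm_num) hi1
            _ = 11 := by norm_num
        have hZs : IsSyl 11 (Z U) R := by
          refine ⟨hZR, E.isPGroup.to_le Z_le, fun h0 => h5 ?_⟩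
          have h7 := card_mul_relIndex hZR
          rw [E.card_Z] at h7
          rw [← h7, show 121 = 11 * 11 by norm_num]
          exact Nat.mul_dvd_mul_left 11 h0
        refine burnside h2 hZs (fun h0 => ?_) ?_
        · have h7 := E.card_Z
          rw [h0, Subgroup.card_bot] at h7
          omega
        · rintro x ⟨hx, hxR⟩
          have hxU := E.norm hx
          refine E.cent_Z fun u hu => ?_
          rw [← hRU]
          refine ⟨?_, ?_⟩
          · have h7 : u * x⁻¹ * u⁻¹ ∈ R := (mem_normalizer_iff.1 (hnU hu) _).1 (R.inv_mem hxR)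
            have h8 := R.mul_mem hxR h7
            rwa [← mul_assoc, ← mul_assoc] at h8
          · exact U.mul_mem ((mem_normalizer_iff.1 hxU u).1 hu) (U.inv_mem hu)
    · have h4 : ∃ q : ℕ, q.Prime ∧ q ∣ Nat.card R ∧ ¬ q ^ 2 ∣ nJ ∧ ¬ 11 ∣ q - 1 ∧ ¬ q ∣ 11 ^ 3 := by
        rcases ords_prime _ h3 h11 with h | h
        · exact ⟨5, by norm_num, h, by norm_num [nJ], by norm_num, by norm_num⟩
        · exact ⟨7, by norm_num, h, by norm_num [nJ], by norm_num, by norm_num⟩
      obtain ⟨q, hq, hqd, hq2, hq11, hq3⟩ := h4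
      obtain ⟨Y, hYR, hY, hYc⟩ := exists_cent E.isPGroup hnU h11 hq hqd (fun h0 => hq2 (h0.trans (F.dvd R))) hq11
      apply hq3
      rw [← hY, ← E.card]
      exact Subgroup.card_dvd_of_le (hYc.trans E.cent)

end Cfsg.Agent.H866.J4Eleven
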