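import Cfsg.Agent.H866.J4Ord
import Cfsg.Agent.Lib.MinNormal
import Cfsg.Agent.Lib.MinNormalNonabelian
import Cfsg.Agent.Lib.SubnormalJoin

/-!
# Minimal normal subgroups of the subgroups of a group of order `|J4|` (helper866)

A subgroup `H ≠ 1` of a group whose order divides `|J4|` has a normal subgroup `R ≠ 1` which is elementary abelian or
nonabelian simple (one component), with the order in the list `ords`.
-/

set_option autoImplicit false

namespace Cfsg.Agent.H866.J4Min

open Cfsg Subgroup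
open Cfsg.Agent.OrdDiv
open Cfsg.Agent.H866.J4Ord

universe u

/-- the classification as a hypothesis -/
def Known : Prop := ∀ (G : Type u) [Group G] [Finite G] [IsSimpleGroup G], IsKnownSimple' G

theorem min_abstract (T : OrderTable.{u}) (hS : Known.{u}) {H : Type u} [Group H] [Finite H] [Nontrivial H]
    (hd : Nat.card H ∣ nJ) : ∃ R : Subgroup H, R.Normal ∧ R ≠ ⊥ ∧
      (∀ M : Subgroup H, M.Normal → M ≤ R → M = ⊥ ∨ M = R) ∧
      ((∃ r : ℕ, r.Prime ∧ IsElementaryAbelian r R) ∨
        (IsSimpleGroup R ∧ (¬ ∀ a b : R, a * b = b * a) ∧ Nat.card R ∈ ords)) := by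
  obtain ⟨R, hRn, hR, hmin⟩ := Lib.SubnormalJoin.exists_minimal_normal H
  refine ⟨R, hRn, hR, hmin, ?_⟩
  obtain ⟨X, m, hXR, hXs, hm, ⟨e⟩⟩ := Lib.MinNormal.exists_mulEquiv_pi R hR hmin
  by_cases hab : ∀ a b : X, a * b = b * a
  · left
    have h1 : ∀ a b : R, a * b = b * a := by
      intro a b
      apply e.injective
      rw [map_mul, map_mul]
      funext i
      exact hab _ _
    obtain ⟨r, hr, -, hx⟩ := Lib.MinNormalNonabelian.abelian_structure R hR hmin
      (fun x hx y hy => congrArg Subtype.val (h1 ⟨x, hx⟩ ⟨y, hy⟩))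
    exact ⟨r, hr, ⟨⟨fun a b => h1 a b⟩⟩, hx⟩
  · right
    have h1 : Nat.card X ∣ nJ := (Subgroup.card_subgroup_dvd_card X).trans hd
    have h2 : Nat.card X ∈ ords := card_mem_ords T (hS X) hab h1
    have h3 : Nat.card R = Nat.card X ^ m := by
      rw [Nat.card_congr e.toEquiv, Nat.card_fun, Nat.card_eq_fintype_card (α := Fin m), Fintype.card_fin]
    have h4 : m = 1 := by
      by_contra hne
      apply ords_sq _ h2
      have h5 : Nat.card X ^ 2 ∣ Nat.card R := by
        rw [h3]
        exact pow_dvd_pow _ (by omega)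
      rw [← pow_two]
      exact (h5.trans (Subgroup.card_subgroup_dvd_card R)).trans hd
    subst h4
    have e2 : R ≃* X := e.trans (MulEquiv.funUnique (Fin 1) X)
    refine ⟨?_, ?_, ?_⟩
    · exact e2.isSimpleGroup_congr.2 hXs
    · intro h
      apply hab
      intro a b
      apply e2.symm.injective
      rw [map_mul, map_mul]
      exact h _ _
    · rw [h3, pow_one]
      exact h2

/-- **the minimal normal subgroups, in ambient form** -/
theorem exists_min (T : OrderTable.{u}) (hS : Known.{u}) {G : Type u} [Group G] [Finite G]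
    (hd : Nat.card G ∣ nJ) (H : Subgroup G) (hH : H ≠ ⊥) : ∃ R : Subgroup G, R ≤ H ∧ R ≠ ⊥ ∧
      H ≤ normalizer (R : Set G) ∧ (∀ M : Subgroup G, M ≤ R → H ≤ normalizer (M : Set G) → M = ⊥ ∨ M = R) ∧
      ((∃ r : ℕ, r.Prime ∧ IsElementaryAbelian r R) ∨
        (IsSimpleGroup R ∧ (¬ ∀ a b : R, a * b = b * a) ∧ Nat.card R ∈ ords)) := by
  have hn : Nontrivial H := (Subgroup.nontrivial_iff_ne_bot H).2 hH
  obtain ⟨R, hRn, hR, hmin, h⟩ := min_abstract T hS ((Subgroup.card_subgroup_dvd_card H).trans hd)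
  have e : R ≃* R.map H.subtype := R.equivMapOfInjective _ H.subtype_injective
  have hN : ∀ {M : Subgroup H}, M.Normal → H ≤ normalizer ((M.map H.subtype : Subgroup G) : Set G) := by
    intro M hM x hx
    rw [mem_normalizer_iff]
    intro y
    constructor
    · rintro ⟨r, hr, rfl⟩
      exact ⟨⟨x, hx⟩ * r * ⟨x, hx⟩⁻¹, hM.conj_mem r hr _, rfl⟩
    · rintro ⟨r, hr, he⟩
      refine ⟨⟨x, hx⟩⁻¹ * r * ⟨x, hx⟩, ?_, ?_⟩
      · have := hM.conj_mem r hr (⟨x, hx⟩⁻¹ : H)
        rwa [inv_inv] at this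
      · have h1 : (r : G) = x * y * x⁻¹ := he
        change x⁻¹ * (r : G) * x = y
        rw [h1]
        group
  refine ⟨R.map H.subtype, Subgroup.map_subtype_le _, ?_, hN hRn, ?_, ?_⟩
  · intro h0
    apply hR
    rwa [Subgroup.map_eq_bot_iff_of_injective _ H.subtype_injective] at h0
  · intro M hM hn'
    have h1 : (M.subgroupOf H).map H.subtype = M :=
      Subgroup.map_subgroupOf_eq_of_le (hM.trans (Subgroup.map_subtype_le _))
    have h2 : (M.subgroupOf H).Normal := by
      refine ⟨fun y hy g => ?_⟩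
      rw [mem_subgroupOf] at hy ⊢
      exact ((mem_normalizer_iff.1 (hn' g.2)) _).1 hy
    have h3 : M.subgroupOf H ≤ R := by
      intro y hy
      obtain ⟨r, hr, he⟩ := hM (mem_subgroupOf.1 hy)
      rwa [H.subtype_injective he] at hr
    rcases hmin _ h2 h3 with h4 | h4
    · left
      rw [← h1, h4, Subgroup.map_bot]
    · right
      rw [← h1, h4]
  · rcases h with ⟨r, hr, h⟩ | ⟨h1, h2, h3⟩
    · left
      refine ⟨r, hr, ⟨⟨?_⟩⟩, ?_⟩
      · intro a b
        obtain ⟨a, rfl⟩ := e.surjective a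
        obtain ⟨b, rfl⟩ := e.surjective b
        rw [← map_mul, ← map_mul, h.1.is_comm.comm a b]
      · rintro _ ⟨x, hx, rfl⟩
        rw [← map_pow, h.2 x hx, map_one]
    · right
      refine ⟨e.symm.isSimpleGroup_congr.2 h1, ?_, ?_⟩
      · intro h
        apply h2
        intro a b
        apply e.injective
        rw [map_mul, map_mul]
        exact h _ _
      · rwa [← Nat.card_congr e.toEquiv]

end Cfsg.Agent.H866.J4Min
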