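import Cfsg.Agent.OddOrderLocal.SylIn
import Cfsg.Agent.Classification.InvCentU.FiveLib
import Cfsg.Agent.StdL2.G23Coset
import Cfsg.Agent.Lib.CoprimeHyperplane
import Cfsg.Agent.Lib.MinNormal
import Cfsg.Agent.Lib.MinNormalNonabelian

/-!
# Sylow counting tools in ambient form (helper866)
-/

set_option autoImplicit false

namespace Cfsg.Agent.H866.OddTools

open Cfsg Subgroup
open Cfsg.Agent.OddOrderLocal.SylIn

variable {G : Type*} [Group G] [Finite G] {p : ℕ} [hp : Fact p.Prime]

/-- the Frattini argument in numbers -/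
theorem frattini_card {P K H : Subgroup G} (hKH : K ≤ H) (hn : H ≤ normalizer (K : Set G)) (hP : IsSyl p P K) :
    Nat.card H * Nat.card (normalizer (P : Set G) ⊓ K : Subgroup G) =
      Nat.card K * Nat.card (normalizer (P : Set G) ⊓ H : Subgroup G) := by
  have h1 := le_sup_of_isSyl_normal hKH hn hP
  have h2 : (H ⊓ normalizer (P : Set G)) ⊔ K = H := le_antisymm (sup_le inf_le_left hKH) (by rw [sup_comm]; exact h1)
  have h3 := StdL2.G23Coset.card_sup_mul_card_inf (H := H ⊓ normalizer (P : Set G)) (N := K)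
    (inf_le_left.trans hn)
  have h4 : (H ⊓ normalizer (P : Set G)) ⊓ K = normalizer (P : Set G) ⊓ K := by
    rw [inf_right_comm, inf_eq_right.2 hKH, inf_comm]
  rw [h2, h4] at h3
  rw [h3, mul_comm, inf_comm]

/-- Sylow's congruence -/
theorem sylow_mod {P K : Subgroup G} (hP : IsSyl p P K) :
    ∃ m : ℕ, m % p = 1 ∧ Nat.card K = m * Nat.card (normalizer (P : Set G) ⊓ K : Subgroup G) := by
  refine Classification.InvCentU.FiveLib.sylow_index hP.le hP.isPGroup ?_
  have h1 := card_mul_relIndex hP.le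
  rw [← h1, Nat.mul_div_cancel_left _ Nat.card_pos]
  exact hP.not_dvd

/-- an element normalizing a group `Y` of prime order `q`, of order coprime to `q - 1`, centralizes it -/
theorem mem_centralizer_of_coprime {Y : Subgroup G} {x : G} (hx : x ∈ normalizer (Y : Set G)) {q : ℕ} (hq : q.Prime)
    (hY : Nat.card Y = q) (hc : Nat.Coprime (orderOf x) (q - 1)) : x ∈ centralizer (Y : Set G) := by
  have : Fact q.Prime := ⟨hq⟩
  have hcy : IsCyclic Y := isCyclic_of_prime_card hY
  have h1 : Nat.card (MulAut Y) = q - 1 := by rw [hcy.card_mulAut, hY, Nat.totient_prime hq]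
  have h2 : Y.normalizerMonoidHom ⟨x, hx⟩ = 1 := by
    have h3 : orderOf (Y.normalizerMonoidHom ⟨x, hx⟩) ∣ orderOf x := by
      rw [orderOf_dvd_iff_pow_eq_one, ← map_pow]
      have h4 : (⟨x, hx⟩ : normalizer (Y : Set G)) ^ orderOf x = 1 := Subtype.ext (pow_orderOf_eq_one x)
      rw [h4, map_one]
    have h4 : orderOf (Y.normalizerMonoidHom ⟨x, hx⟩) ∣ q - 1 := h1 ▸ orderOf_dvd_natCard _
    exact orderOf_eq_one_iff.1 (Nat.eq_one_of_dvd_coprimes hc h3 h4)
  rw [mem_centralizer_iff]
  intro y hy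
  have h6 : Y.normalizerMonoidHom ⟨x, hx⟩ ⟨y, hy⟩ = ⟨y, hy⟩ := by rw [h2]; rfl
  have h7 : x * y * x⁻¹ = y := congrArg Subtype.val h6
  exact (mul_inv_eq_iff_eq_mul.1 h7).symm

/-- a `p`-group normalizing a group `Y` of prime order `q` with `p ∤ q - 1` centralizes it -/
theorem le_centralizer_of_prime {U Y : Subgroup G} (hU : IsPGroup p U) (hn : U ≤ normalizer (Y : Set G)) {q : ℕ}
    (hq : q.Prime) (hY : Nat.card Y = q) (hpq : ¬ p ∣ q - 1) : U ≤ centralizer (Y : Set G) := by
  intro u hu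
  have : Fact q.Prime := ⟨hq⟩
  have hc : IsCyclic Y := isCyclic_of_prime_card hY
  have h1 : Nat.card (MulAut Y) = q - 1 := by rw [hc.card_mulAut, hY, Nat.totient_prime hq]
  let φ : U →* MulAut Y := Y.normalizerMonoidHom.comp (Subgroup.inclusion hn)
  have h2 : φ ⟨u, hu⟩ = 1 := by
    obtain ⟨k, hk⟩ := hU ⟨u, hu⟩
    have h3 : orderOf (φ ⟨u, hu⟩) ∣ p ^ k := by
      rw [orderOf_dvd_iff_pow_eq_one, ← map_pow, hk, map_one]
    have h4 : orderOf (φ ⟨u, hu⟩) ∣ q - 1 := h1 ▸ orderOf_dvd_natCard _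
    have h5 : Nat.Coprime (p ^ k) (q - 1) := Nat.Coprime.pow_left _ ((hp.out.coprime_iff_not_dvd).2 hpq)
    exact orderOf_eq_one_iff.1 (Nat.eq_one_of_dvd_coprimes h5 h3 h4)
  rw [mem_centralizer_iff]
  intro y hy
  have h6 : φ ⟨u, hu⟩ ⟨y, hy⟩ = ⟨y, hy⟩ := by rw [h2]; rfl
  have h7 : u * y * u⁻¹ = y := congrArg Subtype.val h6
  exact (mul_inv_eq_iff_eq_mul.1 h7).symm

/-- a `p`-group normalizing a `p'`-group `K` whose order is divisible by a prime `q` just once, `p ∤ q - 1`,
centralizes an element of order `q` -/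
theorem exists_cent {U K : Subgroup G} (hU : IsPGroup p U) (hn : U ≤ normalizer (K : Set G))
    (hpK : ¬ p ∣ Nat.card K) {q : ℕ} (hq : q.Prime) (hqK : q ∣ Nat.card K) (hq2 : ¬ q ^ 2 ∣ Nat.card K)
    (hpq : ¬ p ∣ q - 1) : ∃ Y : Subgroup G, Y ≤ K ∧ Nat.card Y = q ∧ Y ≤ centralizer (U : Set G) := by
  have : Fact q.Prime := ⟨hq⟩
  obtain ⟨Q, hQ⟩ := Lib.CoprimeHyperplane.exists_invariant_sylow hU hn hpK q
  have h1 : Nat.card ((Q : Subgroup K).map K.subtype : Subgroup G) = q := by
    rw [Subgroup.card_map_of_injective K.subtype_injective, Q.card_eq_multiplicity]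
    have h2 : (Nat.card K).factorization q = 1 := by
      apply le_antisymm
      · by_contra h
        push Not at h
        exact hq2 ((Nat.pow_dvd_pow q h).trans (Nat.ordProj_dvd _ _))
      · exact (hq.dvd_iff_one_le_factorization Nat.card_pos.ne').1 hqK
    rw [h2, pow_one]
  refine ⟨(Q : Subgroup K).map K.subtype, Subgroup.map_subtype_le _, h1, ?_⟩
  rw [Subgroup.le_centralizer_iff]
  exact le_centralizer_of_prime hU hQ hq h1 hpq

/-- **Burnside**: a nonabelian simple subgroup `K` has no Sylow `p`-subgroup `S ≠ 1` with `N_K(S) ≤ C(S)` -/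
theorem burnside {K S : Subgroup G} [IsSimpleGroup K] (hna : ¬ ∀ a b : K, a * b = b * a) (hS : IsSyl p S K)
    (hS1 : S ≠ ⊥) (h : normalizer (S : Set G) ⊓ K ≤ centralizer (S : Set G)) : False := by
  obtain ⟨T, rfl⟩ := hS.exists_sylow
  have h1 : normalizer ((T : Subgroup K) : Set K) ≤ centralizer ((T : Subgroup K) : Set K) := by
    intro x hx
    have h2 : (x : G) ∈ normalizer (((T : Subgroup K).map K.subtype : Subgroup G) : Set G) := by
      rw [mem_normalizer_iff] at hx ⊢
      intro y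
      constructor
      · rintro ⟨t, ht, rfl⟩
        exact ⟨x * t * x⁻¹, (hx t).1 ht, rfl⟩
      · rintro ⟨t, ht, he⟩
        have hy : y ∈ K := by
          have h3 : y = (x : G)⁻¹ * (t : G) * x := by
            have h4 : (t : G) = x * y * (x : G)⁻¹ := he
            rw [h4]; group
          rw [h3]
          exact K.mul_mem (K.mul_mem (K.inv_mem x.2) t.2) x.2
        refine ⟨⟨y, hy⟩, (hx ⟨y, hy⟩).2 ?_, rfl⟩
        have h5 : x * ⟨y, hy⟩ * x⁻¹ = t := Subtype.ext he.symm
        rw [h5]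
        exact ht
    have h3 := h ⟨h2, x.2⟩
    rw [mem_centralizer_iff] at h3 ⊢
    intro t ht
    exact Subtype.ext (h3 t ⟨t, ht, rfl⟩)
  have h2 := MonoidHom.ker_transferSylow_isComplement' T h1
  have h3 : (MonoidHom.transferSylow T h1).ker.Normal := inferInstance
  rcases h3.eq_bot_or_eq_top with h4 | h4
  · rw [h4] at h2
    have h5 : (T : Subgroup K) = ⊤ := Subgroup.isComplement'_bot_left.1 h2
    apply hna
    intro a b
    have h6 : a ∈ centralizer ((T : Subgroup K) : Set K) := by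
      apply h1
      rw [h5]
      exact Subgroup.le_normalizer (H := (⊤ : Subgroup K)) (mem_top a)
    exact ((mem_centralizer_iff.1 h6) b (by rw [h5]; exact mem_top b)).symm
  · rw [h4] at h2
    have h5 : (T : Subgroup K) = ⊥ := Subgroup.isComplement'_top_left.1 h2
    apply hS1
    rw [h5, Subgroup.map_bot]

/-- the fixed points of a `p`-group acting on a subgroup -/
theorem card_mod {U K : Subgroup G} (hU : IsPGroup p U) (hn : U ≤ normalizer (K : Set G)) :
    Nat.card K ≡ Nat.card (K ⊓ centralizer (U : Set G) : Subgroup G) [MOD p] := by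
  classical
  let _ : MulAction U K := MulAction.compHom K (K.normalizerMonoidHom.comp (Subgroup.inclusion hn))
  have hsm : ∀ (u : U) (x : K), ((u • x : K) : G) = (u : G) * x * (u : G)⁻¹ := fun u x => rfl
  have h1 := hU.card_modEq_card_fixedPoints K
  have h0 : Nat.card (MulAction.fixedPoints U K) = Nat.card (K ⊓ centralizer (U : Set G) : Subgroup G) := ?_
  · rw [← h0]
    exact h1
  refine Nat.card_congr
    { toFun := fun x => ⟨x.1, x.1.2, ?_⟩
      invFun := fun x => ⟨⟨x.1, x.2.1⟩, ?_⟩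
      left_inv := fun x => rfl
      right_inv := fun x => rfl }
  · refine (mem_centralizer_iff (s := (U : Set G))).2 fun u hu => ?_
    have h2 := congrArg Subtype.val (x.2 ⟨u, hu⟩)
    rw [hsm] at h2
    exact mul_inv_eq_iff_eq_mul.1 h2
  · intro u
    apply Subtype.ext
    rw [hsm]
    exact mul_inv_eq_iff_eq_mul.2 ((mem_centralizer_iff.1 x.2.2) u u.2)

theorem card_mod_one {U K : Subgroup G} (hU : IsPGroup p U) (hn : U ≤ normalizer (K : Set G))
    (hc : K ⊓ centralizer (U : Set G) = ⊥) : Nat.card K % p = 1 := by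
  have h1 := card_mod hU hn
  rw [hc, Subgroup.card_bot] at h1
  have h2 : Nat.card K % p = 1 % p := h1
  rw [h2, Nat.mod_eq_of_lt hp.out.one_lt]

end Cfsg.Agent.H866.OddTools
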