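import Cfsg.Agent.H866.J4Min
import Cfsg.Agent.H866.OddTools

/-!
# The normalizers of the Sylow `p`-subgroups of `J4` are maximal, `p = 29, 37, 43` (helper866)
-/

set_option autoImplicit false

namespace Cfsg.Agent.H866.J4Odd

open Cfsg Subgroup
open Cfsg.Agent.OrdDiv
open Cfsg.Agent.H866.J4Ord Cfsg.Agent.H866.J4Min Cfsg.Agent.H866.OddTools
open Cfsg.Agent.OddOrderLocal.SylIn

universe u

/-- the facts on `J4` used here -/
structure Facts (G : Type u) [Group G] [Finite G] : Prop where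
  tab : OrderTable.{u}
  known : Known.{u}
  card : Nat.card G = nJ
  ea : ∀ A : Subgroup G, IsElementaryAbelian 2 A → Nat.card A ≤ 2 ^ 11
  n7 : ∀ S : Subgroup G, Nat.card S = 7 → Nat.card (normalizer (S : Set G)) = 2520 ∧
    Nat.card (normalizer (S : Set G)) = 3 * Nat.card (centralizer (S : Set G))
  n11 : ∀ U : Subgroup G, Nat.card U = 11 ^ 3 → Nat.card (normalizer (U : Set G)) = 2 ^ 4 * 3 * 5 * 11 ^ 3
  n23 : ∀ P : Subgroup G, Nat.card P = 23 → Nat.card (normalizer (P : Set G)) = 23 * 22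
  c29 : ∀ P : Subgroup G, Nat.card P = 29 → centralizer (P : Set G) ≤ P
  n29 : ∀ P : Subgroup G, Nat.card P = 29 → Nat.card (normalizer (P : Set G)) = 29 * 28
  c37 : ∀ P : Subgroup G, Nat.card P = 37 → centralizer (P : Set G) ≤ P
  n37 : ∀ P : Subgroup G, Nat.card P = 37 → Nat.card (normalizer (P : Set G)) = 37 * 12
  c43 : ∀ P : Subgroup G, Nat.card P = 43 → centralizer (P : Set G) ≤ P
  n43 : ∀ P : Subgroup G, Nat.card P = 43 → Nat.card (normalizer (P : Set G)) = 43 * 14

variable {G : Type u} [Group G] [Finite G]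

theorem Facts.dvd (F : Facts G) (A : Subgroup G) : Nat.card A ∣ nJ :=
  F.card ▸ Subgroup.card_subgroup_dvd_card A

/-- the order of an elementary abelian subgroup -/
theorem Facts.ea_card (F : Facts G) {R : Subgroup G} (hR : R ≠ ⊥) {r : ℕ} (hr : r.Prime)
    (h : IsElementaryAbelian r R) : ∃ x ∈ lJ, ∃ j : ℕ, 1 ≤ j ∧ j ≤ x.2 ∧ (x.1 = 2 → j ≤ 11) ∧ x.1 = r ∧
      Nat.card R = x.1 ^ j := by
  have : Fact r.Prime := ⟨hr⟩
  have h1 : IsPGroup r R := fun x => ⟨1, by rw [pow_one]; exact Subtype.ext (h.2 x x.2)⟩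
  obtain ⟨j, hj⟩ := IsPGroup.iff_card.1 h1
  have hj1 : 1 ≤ j := by
    by_contra h0
    have : j = 0 := by omega
    rw [this, pow_zero] at hj
    exact hR (Subgroup.card_eq_one.1 hj)
  obtain ⟨k, hk, hjk⟩ := exists_pair valid_lJ hr hj1 (hj ▸ F.dvd R)
  refine ⟨(r, k), hk, j, hj1, hjk, ?_, rfl, hj⟩
  rintro (rfl : r = 2)
  have h2 := F.ea R h
  rw [hj] at h2
  exact (Nat.pow_le_pow_iff_right (by norm_num)).1 h2

/-- the powers of primes dividing the order of `J4` which are `1` modulo `p` -/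
def okB (p : ℕ) : Bool :=
  lJ.all fun x => (List.range (x.2 + 1)).all fun j => (j == 0) || (x.1 == 2 && Nat.ble 12 j) || (x.1 == p) ||
    (x.1 ^ j % p != 1)

theorem okB_spec {p : ℕ} (h : okB p = true) {x : ℕ × ℕ} (hx : x ∈ lJ) {j : ℕ} (hj : 1 ≤ j) (hj2 : j ≤ x.2)
    (h2 : x.1 = 2 → j ≤ 11) (hp : x.1 ≠ p) : x.1 ^ j % p ≠ 1 := by
  unfold okB at h
  rw [List.all_eq_true] at h
  have h3 := h x hx
  rw [List.all_eq_true] at h3
  have h4 := h3 j (List.mem_range.2 (by omega))
  simp only [Bool.or_eq_true, Bool.and_eq_true, beq_iff_eq, bne_iff_ne, Nat.ble_eq] at h4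
  rcases h4 with ((h4 | ⟨h4, h5⟩) | h4) | h4
  · omega
  · have := h2 h4
    omega
  · exact absurd h4 hp
  · exact h4

/-- the primes for which the order count works -/
def good (p : ℕ) : Bool :=
  okB p && ([5, 7, 23, 29, 31, 37, 43].all fun q => (q == p) || ((q - 1) % p != 0)) &&
    ([5, 7, 23, 29, 31, 37, 43].all fun q => nJ % q ^ 2 != 0) && (nJ % p ^ 2 != 0)

theorem good_29 : good 29 = true := by decide +kernel
theorem good_37 : good 37 = true := by decide +kernel
theorem good_43 : good 43 = true := by decide +kernel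

theorem prime_of_mem {q : ℕ} (h : q ∈ [5, 7, 23, 29, 31, 37, 43]) : q.Prime := by
  simp only [List.mem_cons, List.not_mem_nil, or_false] at h
  rcases h with rfl | rfl | rfl | rfl | rfl | rfl | rfl <;> norm_num

/-- **overgroups of a self-centralizing Sylow subgroup of prime order** -/
theorem Facts.over (F : Facts G) {p : ℕ} (hp : p.Prime) (hg : good p = true) {P H : Subgroup G}
    (hP : Nat.card P = p) (hC : centralizer (P : Set G) ≤ P) (hPH : P ≤ H)
    (hH : ¬ H ≤ normalizer (P : Set G)) : ∃ K : Subgroup G, K ≤ H ∧ H ≤ normalizer (K : Set G) ∧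
      IsSimpleGroup K ∧ (¬ ∀ a b : K, a * b = b * a) ∧ Nat.card K ∈ ords ∧ P ≤ K ∧ IsSyl p P K ∧ IsSyl p P H := by
  have : Fact p.Prime := ⟨hp⟩
  unfold good at hg
  simp only [Bool.and_eq_true] at hg
  obtain ⟨⟨⟨hg1, hg2⟩, hg3⟩, hg4⟩ := hg
  have hPg : IsPGroup p P := IsPGroup.of_card (n := 1) (by rw [hP, pow_one])
  have hp2 : ¬ p ^ 2 ∣ nJ := by
    intro h
    rw [Nat.mod_eq_zero_of_dvd h] at hg4
    exact absurd hg4 (by decide)
  have hsyl : ∀ X : Subgroup G, P ≤ X → IsSyl p P X := fun X hX => by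
    refine ⟨hX, hPg, fun h => hp2 ?_⟩
    have h1 := card_mul_relIndex hX
    obtain ⟨c, hc⟩ := h
    have h2 : p ^ 2 ∣ Nat.card X := ⟨c, by rw [← h1, hP, hc]; ring⟩
    exact h2.trans (F.dvd X)
  have hH1 : H ≠ ⊥ := by
    rintro rfl
    exact hH bot_le
  obtain ⟨R, hRH, hR, hn, -, h⟩ := exists_min F.tab F.known (F.card ▸ dvd_rfl) H hH1
  have hPR : ¬ P ≤ R → P ⊓ R = ⊥ := by
    intro h0
    have h1 := Subgroup.card_dvd_of_le (inf_le_left : P ⊓ R ≤ P)
    rw [hP] at h1
    rcases (Nat.dvd_prime hp).1 h1 with h2 | h2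
    · exact Subgroup.card_eq_one.1 h2
    · exact absurd (inf_eq_left.1 (Subgroup.eq_of_le_of_card_ge inf_le_left (by rw [hP, h2]))) h0
  rcases h with ⟨r, hr, h⟩ | ⟨h1, h2, h3⟩
  · exfalso
    obtain ⟨x, hx, j, hj1, hj2, hj3, rfl, hj⟩ := F.ea_card hR hr h
    have hr' : Fact (x.1).Prime := ⟨hr⟩
    by_cases hle : P ≤ R
    · -- then `R = P`
      have h4 : p ∣ x.1 ^ j := by
        rw [← hj, ← hP]
        exact Subgroup.card_dvd_of_le hle
      have h5 : p = x.1 := (Nat.prime_dvd_prime_iff_eq hp hr).1 (hp.dvd_of_dvd_pow h4)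
      have h6 : j = 1 := by
        by_contra hne
        apply hp2
        rw [h5]
        exact (pow_dvd_pow _ (by omega : 2 ≤ j)).trans (hj ▸ F.dvd R)
      have h7 : P = R := Subgroup.eq_of_le_of_card_ge hle (by rw [hj, hP, h6, pow_one, h5])
      rw [← h7] at hn
      exact hH hn
    · have h4 := hPR hle
      have h5 : R ⊓ centralizer (P : Set G) = ⊥ := by
        rw [eq_bot_iff, ← h4, inf_comm P R]
        exact inf_le_inf_left _ hC
      have h6 := card_mod_one hPg (hPH.trans hn) h5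
      rw [hj] at h6
      refine okB_spec hg1 hx hj1 hj2 hj3 ?_ h6
      rintro rfl
      rw [Nat.pow_mod, Nat.mod_self, Nat.zero_pow (by omega), Nat.zero_mod] at h6
      exact absurd h6 (by norm_num)
  · refine ⟨R, hRH, hn, h1, h2, h3, ?_⟩
    by_cases hpK : p ∣ Nat.card R
    · -- then `P ≤ R`
      obtain ⟨Q, hQ⟩ := exists_isSyl p R
      have h4 : Nat.card Q = p := by
        obtain ⟨j, hj⟩ := IsPGroup.iff_card.1 hQ.isPGroup
        have h5 : j ≠ 0 := by
          rintro rfl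
          have h6 := card_mul_relIndex hQ.le
          rw [hj, pow_zero, one_mul] at h6
          exact hQ.not_dvd (h6 ▸ hpK)
        have h6 : ¬ 2 ≤ j := fun h7 => hp2 ((pow_dvd_pow _ h7).trans (hj ▸ F.dvd Q))
        have h7 : j = 1 := by omega
        rw [hj, h7, pow_one]
      have h5 : IsSyl p Q H := (hsyl H hPH).of_card_le (hQ.le.trans hRH) hQ.isPGroup (by rw [h4, hP])
      obtain ⟨x, hx, h6⟩ := h5.exists_conj (hsyl H hPH)
      have h7 : P ≤ R := by
        rw [← h6]
        rintro _ ⟨y, hy, rfl⟩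
        exact ((mem_normalizer_iff.1 (hn hx)) y).1 (hQ.le hy)
      exact ⟨h7, hsyl R h7, hsyl H hPH⟩
    · exfalso
      obtain ⟨q, hq, hqd⟩ := ords_fst _ h3
      have hqp : q.Prime := prime_of_mem hq
      have hne : q ≠ p := by
        rintro rfl
        exact hpK hqd
      rw [List.all_eq_true] at hg2 hg3
      have h4 := hg2 q hq
      simp only [Bool.or_eq_true, beq_iff_eq, bne_iff_ne] at h4
      have h5 : ¬ p ∣ q - 1 := fun h6 => by
        rcases h4 with h4 | h4
        · exact hne h4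
        · exact h4 (Nat.mod_eq_zero_of_dvd h6)
      have h6 : ¬ q ^ 2 ∣ Nat.card R := fun h7 => by
        have h8 := hg3 q hq
        rw [Nat.mod_eq_zero_of_dvd (h7.trans (F.dvd R))] at h8
        exact absurd h8 (by decide)
      obtain ⟨Y, hYR, hY, hYc⟩ := exists_cent hPg (hPH.trans hn) hpK hqp hqd h6 h5
      have h7 : q ∣ p := by
        rw [← hY, ← hP]
        exact Subgroup.card_dvd_of_le (hYc.trans hC)
      exact hne ((Nat.prime_dvd_prime_iff_eq hqp hp).1 h7)

theorem Facts.eq_top (F : Facts G) {K : Subgroup G} (h : Nat.card K = nJ) : K = ⊤ :=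
  Subgroup.eq_top_of_card_eq K (by rw [h, F.card])

/-- the possible orders of `N_K(P)` -/
theorem solve_mod {n N p a : ℕ} (h : ∀ d ∈ Nat.divisors n, d ∣ N → (N / d) % p = 1 → d = a) (hn : n ≠ 0) {m d : ℕ}
    (hd : d ∣ n) (hm : m % p = 1) (he : N = m * d) : d = a := by
  have hd0 : 0 < d := Nat.pos_of_ne_zero fun h0 => hn (by rw [h0] at hd; exact Nat.eq_zero_of_zero_dvd hd)
  refine h d (Nat.mem_divisors.2 ⟨hd, hn⟩) (he ▸ Dvd.intro_left m rfl) ?_
  rw [he, Nat.mul_div_cancel _ hd0]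
  exact hm

/-- the primes `43`, `37`, `29` : a general frame -/
theorem Facts.coatom (F : Facts G) {p : ℕ} (hp : p.Prime) (hg : good p = true) {P : Subgroup G}
    (hP : Nat.card P = p) (hC : centralizer (P : Set G) ≤ P) (hne : Nat.card (normalizer (P : Set G)) ≠ nJ)
    (h : ∀ K H : Subgroup G, K ≤ H → H ≤ normalizer (K : Set G) → IsSimpleGroup K → (¬ ∀ a b : K, a * b = b * a) →
      Nat.card K ∈ ords → IsSyl p P K → normalizer (P : Set G) ≤ H → Nat.card K ≠ nJ → False) :
    IsCoatom (normalizer (P : Set G)) := by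
  refine ⟨fun h0 => hne (by rw [h0, Subgroup.card_top, F.card]), fun H hH => ?_⟩
  obtain ⟨K, hK, hn, h1, h2, h3, h4, h5, h6⟩ := F.over hp hg hP hC (Subgroup.le_normalizer.trans hH.le)
    (fun h0 => absurd (le_antisymm hH.le h0) hH.ne)
  by_contra hHt
  refine h K H hK hn h1 h2 h3 h5 hH.le fun h7 => hHt ?_
  exact top_le_iff.1 (F.eq_top h7 ▸ hK)

/-- **the prime `43`** -/
theorem Facts.coatom_43 (F : Facts G) {P : Subgroup G} (hP : Nat.card P = 43) :
    IsCoatom (normalizer (P : Set G)) := by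
  have hp : Nat.Prime 43 := by norm_num
  have : Fact (Nat.Prime 43) := ⟨hp⟩
  refine F.coatom hp good_43 hP (F.c43 P hP) (by rw [F.n43 P hP]; norm_num [nJ]) ?_
  intro K H _ _ _ _ h3 h5 _ h7
  have h8 : Nat.card K = 39732 := by
    have h9 : 43 ∣ Nat.card K := hP ▸ Subgroup.card_dvd_of_le h5.le
    rcases ords_43 _ h3 h9 with h | h
    · exact h
    · exact absurd h h7
  obtain ⟨m, hm, he⟩ := sylow_mod h5
  rw [h8] at he
  have h9 : Nat.card (normalizer (P : Set G) ⊓ K : Subgroup G) ∣ 602 := by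
    have := Subgroup.card_dvd_of_le (inf_le_left : normalizer (P : Set G) ⊓ K ≤ normalizer (P : Set G))
    rwa [F.n43 P hP] at this
  have h10 : ∀ d ∈ Nat.divisors 602, d ∣ 39732 → (39732 / d) % 43 = 1 → d = 0 := by decide +kernel
  have h11 := solve_mod h10 (by norm_num) h9 hm he
  exact absurd h11 Nat.card_pos.ne'

/-- the order of the normalizer of a Sylow `11`-subgroup in a subgroup of order `70915680` -/
theorem Facts.card_n11 (F : Facts G) {U K : Subgroup G} (hK : Nat.card K = 70915680)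
    (hU : haveI : Fact (Nat.Prime 11) := ⟨by norm_num⟩; IsSyl 11 U K) :
    Nat.card U = 11 ^ 3 ∧ Nat.card (normalizer (U : Set G) ⊓ K : Subgroup G) = 53240 := by
  have hp : Nat.Prime 11 := by norm_num
  have : Fact (Nat.Prime 11) := ⟨hp⟩
  have h1 : Nat.card U = 11 ^ 3 := by
    obtain ⟨j, hj⟩ := IsPGroup.iff_card.1 hU.isPGroup
    have h2 := card_mul_relIndex hU.le
    have h3 : 11 ^ j ∣ 70915680 := by rw [← hK, ← hj]; exact Subgroup.card_dvd_of_le hU.le
    have h4 : j ≤ 3 := by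
      by_contra h5
      have h6 : 11 ^ 4 ∣ 70915680 := (pow_dvd_pow _ (by omega)).trans h3
      norm_num at h6
    have h5 : 3 ≤ j := by
      by_contra h6
      apply hU.not_dvd
      have h7 : 11 ^ 3 ∣ 11 ^ j * U.relIndex K := by
        rw [← hj, h2, hK]
        norm_num
      have h8 : 11 ^ j * 11 ∣ 11 ^ j * U.relIndex K := (by
        rw [← pow_succ]
        exact pow_dvd_pow _ (by omega) : 11 ^ j * 11 ∣ 11 ^ 3).trans h7
      exact Nat.dvd_of_mul_dvd_mul_left (by positivity) h8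
    have h6 : j = 3 := by omega
    rw [hj, h6]
  refine ⟨h1, ?_⟩
  obtain ⟨m, hm, he⟩ := sylow_mod hU
  rw [hK] at he
  obtain ⟨f, hf⟩ : 11 ^ 3 ∣ Nat.card (normalizer (U : Set G) ⊓ K : Subgroup G) :=
    h1 ▸ Subgroup.card_dvd_of_le (le_inf Subgroup.le_normalizer hU.le)
  have h9 : Nat.card (normalizer (U : Set G) ⊓ K : Subgroup G) ∣ 2 ^ 4 * 3 * 5 * 11 ^ 3 := by
    have := Subgroup.card_dvd_of_le (inf_le_left : normalizer (U : Set G) ⊓ K ≤ normalizer (U : Set G))
    rwa [F.n11 U h1] at this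
  rw [hf, show 2 ^ 4 * 3 * 5 * 11 ^ 3 = 11 ^ 3 * 240 by norm_num] at h9
  have h9' : f ∣ 240 := Nat.dvd_of_mul_dvd_mul_left (by norm_num) h9
  have he' : 53280 = m * f := by
    rw [hf] at he
    have h11 : 70915680 = 11 ^ 3 * (m * f) := by rw [he]; ring
    omega
  have h10 : ∀ d ∈ Nat.divisors 240, d ∣ 53280 → (53280 / d) % 11 = 1 → d = 40 := by decide +kernel
  rw [hf, solve_mod h10 (by norm_num) h9' hm he']
  norm_num

/-- the order of the normalizer of a Sylow `37`-subgroup in a subgroup of order `70915680` -/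
theorem Facts.card_n37 (F : Facts G) {P K : Subgroup G} (hK : Nat.card K = 70915680) (hPc : Nat.card P = 37)
    (hP : haveI : Fact (Nat.Prime 37) := ⟨by norm_num⟩; IsSyl 37 P K) :
    Nat.card (normalizer (P : Set G) ⊓ K : Subgroup G) = 111 := by
  have hp : Nat.Prime 37 := by norm_num
  have : Fact (Nat.Prime 37) := ⟨hp⟩
  obtain ⟨m, hm, he⟩ := sylow_mod hP
  rw [hK] at he
  have h9 : Nat.card (normalizer (P : Set G) ⊓ K : Subgroup G) ∣ 444 := by
    have := Subgroup.card_dvd_of_le (inf_le_left : normalizer (P : Set G) ⊓ K ≤ normalizer (P : Set G))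
    rwa [F.n37 P hPc] at this
  have h10 : ∀ d ∈ Nat.divisors 444, d ∣ 70915680 → (70915680 / d) % 37 = 1 → d = 111 := by decide +kernel
  exact solve_mod h10 (by norm_num) h9 hm he

/-- **the prime `37`** -/
theorem Facts.coatom_37 (F : Facts G) {P : Subgroup G} (hP : Nat.card P = 37) :
    IsCoatom (normalizer (P : Set G)) := by
  have hp : Nat.Prime 37 := by norm_num
  have : Fact (Nat.Prime 37) := ⟨hp⟩
  have : Fact (Nat.Prime 11) := ⟨by norm_num⟩
  refine F.coatom hp good_37 hP (F.c37 P hP) (by rw [F.n37 P hP]; norm_num [nJ]) ?_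
  intro K H hKH hn _ _ h3 h5 hNH h7
  have h8 : Nat.card K = 70915680 := by
    have h9 : 37 ∣ Nat.card K := hP ▸ Subgroup.card_dvd_of_le h5.le
    rcases ords_37 _ h3 h9 with h | h
    · exact h
    · exact absurd h h7
  have h9 := F.card_n37 h8 hP h5
  have h10 := frattini_card hKH hn h5
  rw [inf_eq_left.2 hNH, F.n37 P hP, h9, h8] at h10
  obtain ⟨U, hU⟩ := exists_isSyl 11 K
  obtain ⟨h11, h12⟩ := F.card_n11 h8 hU
  have h13 := frattini_card hKH hn hU
  rw [h12, h8] at h13
  have h14 : Nat.card (normalizer (U : Set G) ⊓ H : Subgroup G) ∣ 319440 := by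
    have := Subgroup.card_dvd_of_le (inf_le_left : normalizer (U : Set G) ⊓ H ≤ normalizer (U : Set G))
    rwa [F.n11 U h11] at this
  have h15 : Nat.card (normalizer (U : Set G) ⊓ H : Subgroup G) = 212960 := by omega
  rw [h15] at h14
  norm_num at h14

theorem card_of_isSyl {p : ℕ} (hp : p.Prime) {S K : Subgroup G} (hS : haveI : Fact p.Prime := ⟨hp⟩; IsSyl p S K)
    (h1 : p ∣ Nat.card K) (h2 : ¬ p ^ 2 ∣ Nat.card K) : Nat.card S = p := by
  have : Fact p.Prime := ⟨hp⟩
  obtain ⟨j, hj⟩ := IsPGroup.iff_card.1 hS.isPGroup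
  have h5 : j ≠ 0 := by
    rintro rfl
    have h6 := card_mul_relIndex hS.le
    rw [hj, pow_zero, one_mul] at h6
    exact hS.not_dvd (h6 ▸ h1)
  have h6 : ¬ 2 ≤ j := fun h7 => h2 ((pow_dvd_pow _ h7).trans (hj ▸ Subgroup.card_dvd_of_le hS.le))
  have h7 : j = 1 := by omega
  rw [hj, h7, pow_one]

/-- **the prime `29`** -/
theorem Facts.coatom_29 (F : Facts G) {P : Subgroup G} (hP : Nat.card P = 29) :
    IsCoatom (normalizer (P : Set G)) := by
  have hp : Nat.Prime 29 := by norm_num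
  have : Fact (Nat.Prime 29) := ⟨hp⟩
  have hp7 : Nat.Prime 7 := by norm_num
  have : Fact (Nat.Prime 7) := ⟨hp7⟩
  have hp5 : Nat.Prime 5 := by norm_num
  have : Fact (Nat.Prime 5) := ⟨hp5⟩
  refine F.coatom hp good_29 hP (F.c29 P hP) (by rw [F.n29 P hP]; norm_num [nJ]) ?_
  intro K H hKH hn h1 h2 h3 h5 hNH h7
  have h8 : Nat.card K = 12180 := by
    have h9 : 29 ∣ Nat.card K := hP ▸ Subgroup.card_dvd_of_le h5.le
    rcases ords_29 _ h3 h9 with h | h
    · exact h
    · exact absurd h h7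
  -- the Sylow 7-subgroup
  obtain ⟨S, hS⟩ := exists_isSyl 7 K
  have hS7 : Nat.card S = 7 := card_of_isSyl hp7 hS (by rw [h8]; norm_num) (by rw [h8]; norm_num)
  obtain ⟨hN, hC⟩ := F.n7 S hS7
  have hS1 : S ≠ ⊥ := by
    rintro rfl
    rw [Subgroup.card_bot] at hS7
    omega
  obtain ⟨f, hf⟩ : 7 ∣ Nat.card (normalizer (S : Set G) ⊓ K : Subgroup G) :=
    hS7 ▸ Subgroup.card_dvd_of_le (le_inf Subgroup.le_normalizer hS.le)
  obtain ⟨m, hm, he⟩ := sylow_mod hS
  have h9 : f ∣ 360 := by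
    have h10 := Subgroup.card_dvd_of_le (inf_le_left : normalizer (S : Set G) ⊓ K ≤ normalizer (S : Set G))
    rw [hN, hf, show 2520 = 7 * 360 by norm_num] at h10
    exact Nat.dvd_of_mul_dvd_mul_left (by norm_num) h10
  have h10 : 1740 = m * f := by
    rw [h8, hf] at he
    have h11 : 12180 = 7 * (m * f) := by rw [he]; ring
    omega
  have h11 : f = 4 ∨ f = 60 := by
    have h12 : ∀ d ∈ Nat.divisors 360, d ∣ 1740 → (1740 / d) % 7 = 1 → d = 4 ∨ d = 60 := by decide +kernel
    have hf0 : 0 < f := Nat.pos_of_ne_zero fun h0 => by rw [h0] at h10; omega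
    refine h12 f (Nat.mem_divisors.2 ⟨h9, by norm_num⟩) (h10 ▸ Dvd.intro_left m rfl) ?_
    rw [h10, Nat.mul_div_cancel _ hf0]
    exact hm
  -- the index of `C_K(S)` in `N_K(S)` divides 3
  have hCN : centralizer (S : Set G) ≤ normalizer (S : Set G) := Subgroup.centralizer_le_normalizer _
  have hCn : ((centralizer (S : Set G)).subgroupOf (normalizer (S : Set G))).Normal := by
    rw [← Subgroup.normalizerMonoidHom_ker]
    infer_instance
  have h12 : (centralizer (S : Set G)).relIndex (normalizer (S : Set G) ⊓ K) ∣ 3 := by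
    have h13 : (centralizer (S : Set G)).relIndex (normalizer (S : Set G)) = 3 := by
      have h14 := card_mul_relIndex hCN
      have h15 : 0 < Nat.card (centralizer (S : Set G)) := Nat.card_pos
      rw [hC, mul_comm] at h14
      exact Nat.eq_of_mul_eq_mul_right h15 h14
    have h14 := Subgroup.relIndex_dvd_index_of_normal
      ((centralizer (S : Set G)).subgroupOf (normalizer (S : Set G)))
      ((normalizer (S : Set G) ⊓ K).subgroupOf (normalizer (S : Set G)))
    rw [Subgroup.relIndex_subgroupOf inf_le_left] at h14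
    rw [← h13]
    exact h14
  have h13 : (centralizer (S : Set G)).relIndex (normalizer (S : Set G) ⊓ K) = 3 := by
    rcases (Nat.dvd_prime (by norm_num)).1 h12 with h | h
    · exact (burnside h2 hS hS1 (Subgroup.relIndex_eq_one.1 h)).elim
    · exact h
  have h14 : Nat.card (centralizer (S : Set G) ⊓ K : Subgroup G) * 3 =
      Nat.card (normalizer (S : Set G) ⊓ K : Subgroup G) := by
    rw [← h13, ← Subgroup.inf_relIndex_right]
    have h15 : centralizer (S : Set G) ⊓ (normalizer (S : Set G) ⊓ K) = centralizer (S : Set G) ⊓ K := by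
      rw [← inf_assoc, inf_eq_left.2 hCN]
    rw [h15]
    exact card_mul_relIndex (le_inf (inf_le_left.trans hCN) inf_le_right)
  have h15 : f = 60 := by
    rcases h11 with h | h
    · rw [hf, h] at h14
      omega
    · exact h
  have h16 : Nat.card (centralizer (S : Set G) ⊓ K : Subgroup G) = 140 := by
    rw [hf, h15] at h14
    omega
  -- the Sylow 5-subgroup
  obtain ⟨Y, hY⟩ := exists_isSyl 5 (centralizer (S : Set G) ⊓ K : Subgroup G)
  have hY5 : Nat.card Y = 5 := card_of_isSyl hp5 hY (by rw [h16]; norm_num) (by rw [h16]; norm_num)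
  have hYK : Y ≤ K := hY.le.trans inf_le_right
  have hYs : IsSyl 5 Y K := by
    refine ⟨hYK, hY.isPGroup, fun h => ?_⟩
    have h17 := card_mul_relIndex hYK
    rw [hY5, h8] at h17
    omega
  have hY1 : Y ≠ ⊥ := by
    rintro rfl
    rw [Subgroup.card_bot] at hY5
    omega
  have hSY : S ≤ centralizer (Y : Set G) := by
    rw [Subgroup.le_centralizer_iff]
    exact hY.le.trans inf_le_left
  have h17 : 35 ∣ Nat.card (normalizer (Y : Set G) ⊓ K : Subgroup G) := by
    have h18 : 5 ∣ Nat.card (normalizer (Y : Set G) ⊓ K : Subgroup G) :=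
      hY5 ▸ Subgroup.card_dvd_of_le (le_inf Subgroup.le_normalizer hYK)
    have h19 : 7 ∣ Nat.card (normalizer (Y : Set G) ⊓ K : Subgroup G) :=
      hS7 ▸ Subgroup.card_dvd_of_le (le_inf (hSY.trans (Subgroup.centralizer_le_normalizer _)) hS.le)
    omega
  have h18 : ¬ 29 ∣ Nat.card (normalizer (Y : Set G) ⊓ K : Subgroup G) := by
    intro h
    obtain ⟨P', hP'⟩ := exists_isSyl 29 (normalizer (Y : Set G) ⊓ K : Subgroup G)
    have h19 : Nat.card P' = 29 := card_of_isSyl hp hP' h fun h0 => by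
      have h20 := h0.trans (Subgroup.card_dvd_of_le (inf_le_right : normalizer (Y : Set G) ⊓ K ≤ K))
      rw [h8] at h20
      norm_num at h20
    have h20 : P' ≤ centralizer (Y : Set G) :=
      le_centralizer_of_prime hP'.isPGroup (hP'.le.trans inf_le_left) hp5 hY5 (by norm_num)
    rw [Subgroup.le_centralizer_iff] at h20
    have h21 := Subgroup.card_dvd_of_le (h20.trans (F.c29 P' h19))
    rw [hY5, h19] at h21
    norm_num at h21
  obtain ⟨g, hg⟩ := h17
  obtain ⟨m', hm', he'⟩ := sylow_mod hYs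
  have h19 : 348 = m' * g := by
    rw [h8, hg] at he'
    have h11 : 12180 = 35 * (m' * g) := by rw [he']; ring
    omega
  have h20 : g = 3 := by
    have h12 : ∀ d ∈ Nat.divisors 348, ¬ 29 ∣ d → (348 / d) % 5 = 1 → d = 3 := by decide +kernel
    have hf0 : 0 < g := Nat.pos_of_ne_zero fun h0 => by rw [h0] at h19; omega
    refine h12 g (Nat.mem_divisors.2 ⟨h19 ▸ Dvd.intro_left m' rfl, by norm_num⟩) (fun h0 => h18 ?_) ?_
    · rw [hg]
      exact h0.mul_left _
    · rw [h19, Nat.mul_div_cancel _ hf0]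
      exact hm'
  refine burnside h2 hYs hY1 fun x hx => ?_
  refine mem_centralizer_of_coprime hx.1 hp5 hY5 ?_
  have h21 : orderOf x ∣ 105 := by
    have h22 : orderOf (⟨x, hx⟩ : (normalizer (Y : Set G) ⊓ K : Subgroup G)) ∣ 105 := by
      have := orderOf_dvd_natCard (⟨x, hx⟩ : (normalizer (Y : Set G) ⊓ K : Subgroup G))
      rwa [hg, h20] at this
    rwa [← Subgroup.orderOf_coe] at h22
  exact Nat.Coprime.coprime_dvd_left h21 (by norm_num)

end Cfsg.Agent.H866.J4Odd
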