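import Cfsg.Agent.OrdDiv.Main

/-!
# The simple groups whose order divides the order of the fourth Janko group (helper866)

`Good lJ nJ K` : `K` has one of the 27 names below.
-/

set_option autoImplicit false

namespace Cfsg.Agent.H866.J4Ord

open Cfsg Cfsg.Agent.OrdDiv

universe u

/-- the factorization of the order of `J4` -/
def lJ : List (ℕ × ℕ) :=
  [(2, 21), (3, 3), (5, 1), (7, 1), (11, 3), (23, 1), (29, 1), (31, 1), (37, 1), (43, 1)]

/-- the order of `J4` -/
def nJ : ℕ := 86775571046077562880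

theorem valid_lJ : valid lJ nJ = true := by decide +kernel

theorem nJ_eq : nJ = 2 ^ 21 * 3 ^ 3 * 5 * 7 * 11 ^ 3 * 23 * 29 * 31 * 37 * 43 := by
  norm_num [nJ]

/-- the names with the orders -/
def names : List (Grp × ℕ) :=
  [(.alt 5, 60), (.alt 6, 360), (.alt 7, 2520), (.alt 8, 20160), (.psl 3 2, 168), (.psl 4 2, 20160),
   (.psl 5 2, 9999360), (.psl 2 4, 60), (.psl 3 4, 20160), (.psl 2 8, 504), (.psl 2 32, 32736), (.psl 2 9, 360),
   (.psl 2 5, 60), (.psl 2 7, 168), (.psl 2 11, 660), (.psl 2 23, 6072), (.psl 2 29, 12180), (.psl 2 31, 14880),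
   (.psl 2 43, 39732), (.psu 3 3, 6048), (.psu 3 11, 70915680), (.m11, 7920), (.m12, 95040), (.m22, 443520),
   (.m23, 10200960), (.m24, 244823040), (.j4, 86775571046077562880)]

theorem cands_eq : (cands lJ nJ).map (fun g => (g, ordN g)) = names := by decide +kernel

/-- **The simple groups whose order divides the order of `J4`.** -/
theorem exists_name (T : OrderTable.{u}) {K : Type u} [Group K] (hk : IsKnownSimple' K)
    (hna : ¬ ∀ a b : K, a * b = b * a) (hd : Nat.card K ∣ nJ) :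
    ∃ x ∈ names, Real x.1 K ∧ Nat.card K = x.2 := by
  obtain ⟨g, hg, hr, hc⟩ := exists_good T hk hna valid_lJ hd
  refine ⟨(g, ordN g), ?_, hr, hc⟩
  rw [← cands_eq]
  exact List.mem_map_of_mem (f := fun g => (g, ordN g)) hg

/-- the orders -/
def ords : List ℕ :=
  [60, 360, 2520, 20160, 168, 9999360, 504, 32736, 660, 6072, 12180, 14880, 39732, 6048, 70915680, 7920, 95040,
   443520, 10200960, 244823040, 86775571046077562880]

theorem mem_ords {x : Grp × ℕ} (hx : x ∈ names) : x.2 ∈ ords := by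
  have h : ∀ x ∈ names, x.2 ∈ ords := by decide +kernel
  exact h x hx

/-- `K` is a simple group whose order is in the list -/
theorem card_mem_ords (T : OrderTable.{u}) {K : Type u} [Group K] (hk : IsKnownSimple' K)
    (hna : ¬ ∀ a b : K, a * b = b * a) (hd : Nat.card K ∣ nJ) : Nat.card K ∈ ords := by
  obtain ⟨x, hx, -, hc⟩ := exists_name T hk hna hd
  rw [hc]
  exact mem_ords hx

/-- a prime dividing `n` and dividing the order of `J4` exactly once, with `11 ∤ p - 1`, for `11 ∤ n` -/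
theorem ords_prime : ∀ n ∈ ords, ¬ 11 ∣ n → 5 ∣ n ∨ 7 ∣ n := by decide +kernel

theorem ords_fst : ∀ n ∈ ords, ∃ p ∈ [5, 7, 23, 29, 31, 37, 43], p ∣ n := by decide +kernel

theorem ords_sq : ∀ n ∈ ords, ¬ n * n ∣ nJ := by decide +kernel

theorem ords_eleven : ∀ n ∈ ords, 11 ∣ n → (11 ^ 3 ∣ n ∧ (n = 70915680 ∨ n = nJ)) ∨ ¬ 121 ∣ n := by
  decide +kernel

theorem ords_two : ∀ n ∈ ords, 2 ^ 11 ∣ n → n = nJ := by decide +kernel

theorem ords_29 : ∀ n ∈ ords, 29 ∣ n → n = 12180 ∨ n = nJ := by decide +kernel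

theorem ords_37 : ∀ n ∈ ords, 37 ∣ n → n = 70915680 ∨ n = nJ := by decide +kernel

theorem ords_43 : ∀ n ∈ ords, 43 ∣ n → n = 39732 ∨ n = nJ := by decide +kernel

theorem mod_29 : ∀ n ∈ ords, n % 29 ≠ 1 := by decide +kernel

theorem mod_43 : ∀ n ∈ ords, n % 43 ≠ 1 := by decide +kernel

end Cfsg.Agent.H866.J4Ord
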