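import Cfsg.Agent.H866.J4Odd
import Cfsg.Agent.H866.J4UData

/-!
# The maximal subgroup `U₃(11) : 2` of `J4` (helper866)
-/

set_option autoImplicit false

namespace Cfsg.Agent.H866.J4PartA

open Cfsg Subgroup
open Cfsg.Agent.OrdDiv
open Cfsg.Agent.H866.J4Ord Cfsg.Agent.H866.J4Min Cfsg.Agent.H866.OddTools Cfsg.Agent.H866.J4Odd
open Cfsg.Agent.OddOrderLocal.SylIn Cfsg.Agent.OddOrderLocal

universe u

theorem names_psu : ∀ x ∈ names, x.2 = 70915680 → x.1 = Grp.psu 3 11 := by decide +kernel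

theorem not_norm : ¬ J4UData.S ≤ normalizer ((zpowers J4UData.g : Subgroup Cfsg.Spor.J4) : Set Cfsg.Spor.J4) := by
  intro h0
  have h1 := h0 J4UData.h_mem
  have h2 := (mem_normalizer_iff.1 h1 J4UData.g).1 (mem_zpowers _)
  have hi : J4UData.h⁻¹ = J4UData.h := inv_eq_of_mul_eq_one_left J4UData.h_sq
  rw [hi] at h2
  obtain ⟨k, hk⟩ := h2
  have h3 : Commute (J4UData.h * J4UData.g * J4UData.h) J4UData.g := by
    rw [← hk]
    exact (Commute.refl J4UData.g).zpow_left k
  apply J4UData.not_comm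
  have h4 := h3.eq
  rw [h4]
  simp only [mul_assoc]

theorem x_norm : Lib.F2MatGroup.getG J4UData.LX 4 ∈
    normalizer ((zpowers J4UData.g : Subgroup Cfsg.Spor.J4) : Set Cfsg.Spor.J4) := by
  set x := Lib.F2MatGroup.getG J4UData.LX 4 with hx
  have hxx : x * x = 1 := J4UData.x_sq
  have hxi : x⁻¹ = x := inv_eq_of_mul_eq_one_left hxx
  have hai : J4UData.a⁻¹ = J4UData.a := inv_eq_of_mul_eq_one_left J4UData.a_sq
  have h1 : x * J4UData.g * x⁻¹ = J4UData.g⁻¹ := by
    rw [J4UData.g_eq, mul_inv_rev, hai, ← hx, hxi, ← mul_assoc, hxx, one_mul]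
  rw [Subgroup.mem_normalizer_iff_map_conj_eq]
  have h2 : (zpowers J4UData.g).map (MulAut.conj x).toMonoidHom = zpowers (x * J4UData.g * x⁻¹) :=
    MonoidHom.map_zpowers _ _
  refine h2.trans ?_
  rw [h1, zpowers_inv]

variable {G : Type u} [Group G] [Finite G]

/-- **`U₃(11) : 2` is a maximal subgroup** -/
theorem part_a [IsSimpleGroup G] (F : Facts G) (e : Cfsg.Spor.J4 ≃* G) : ∃ M : Subgroup G, IsCoatom M ∧
    ∃ (K : Subgroup ↥M) (F : Type) (_ : Field F) (_ : Fintype F),
      Fintype.card F = 121 ∧ K.Normal ∧ K.index = 2 ∧ Nonempty (↥K ≃* Cfsg.PSU 3 F 11) := by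
  have hp : Nat.Prime 37 := by norm_num
  have f37 : Fact (Nat.Prime 37) := ⟨hp⟩
  have f11 : Fact (Nat.Prime 11) := ⟨by norm_num⟩
  set S := J4UData.S.map e.toMonoidHom with hSdef
  set P := zpowers (e J4UData.g) with hPdef
  have hPm : (zpowers J4UData.g).map e.toMonoidHom = P := MonoidHom.map_zpowers _ _
  have hPc : Nat.card P = 37 := by
    rw [hPdef, Nat.card_zpowers, e.orderOf_eq, J4UData.order_g]
  have hPS : P ≤ S := by
    rw [← hPm]
    exact Subgroup.map_mono (zpowers_le.2 J4UData.g_mem)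
  have hST : S ≠ ⊤ := fun h0 => by
    apply J4UData.S_ne
    apply Subgroup.map_injective (f := e.toMonoidHom) e.injective
    rw [← hSdef, h0]
    exact (Subgroup.map_top_of_surjective _ e.surjective).symm
  have hNm : (normalizer ((zpowers J4UData.g : Subgroup Cfsg.Spor.J4) : Set Cfsg.Spor.J4)).map e.toMonoidHom =
      normalizer (P : Set G) := by
    rw [← hPm]
    exact Subgroup.map_equiv_normalizer_eq _ e
  have hSN : ¬ S ≤ normalizer (P : Set G) := fun h0 => not_norm (by
    rw [← hNm, hSdef] at h0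
    exact (Subgroup.map_le_map_iff_of_injective e.injective).1 h0)
  -- the component
  have hover : ∀ H : Subgroup G, S ≤ H → H ≠ ⊤ → ∃ K : Subgroup G, K ≤ H ∧ H ≤ normalizer (K : Set G) ∧
      IsSimpleGroup K ∧ (¬ ∀ a b : K, a * b = b * a) ∧ Nat.card K = 70915680 ∧ P ≤ K ∧ IsSyl 37 P K := by
    intro H hH hHT
    obtain ⟨K, h1, h2, h3, h4, h5, h6, h7, -⟩ := F.over hp good_37 hPc (F.c37 P hPc) (hPS.trans hH)
      (fun h0 => hSN (hH.trans h0))
    refine ⟨K, h1, h2, h3, h4, ?_, h6, h7⟩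
    have h9 : 37 ∣ Nat.card K := hPc ▸ Subgroup.card_dvd_of_le h6
    rcases ords_37 _ h5 h9 with h | h
    · exact h
    · exact absurd (top_le_iff.1 (F.eq_top h ▸ h1)) hHT
  obtain ⟨K, hKS, hSK, hKs, hKn, hKc, hPK, hsyl⟩ := hover S le_rfl hST
  have hKM : K ≤ normalizer (K : Set G) := Subgroup.le_normalizer
  have hMT : normalizer (K : Set G) ≠ ⊤ := fun h0 => by
    have hn : K.Normal := Subgroup.normalizer_eq_top_iff.1 h0
    rcases hn.eq_bot_or_eq_top with h | h
    · rw [h, Subgroup.card_bot] at hKc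
      norm_num at hKc
    · rw [h, Subgroup.card_top, F.card] at hKc
      norm_num [nJ] at hKc
  have hco : IsCoatom (normalizer (K : Set G)) := by
    refine ⟨hMT, fun H hH => ?_⟩
    by_contra hHT
    obtain ⟨K₁, h1, h2, h3, h4, h5, h6, -⟩ := hover H (hSK.trans hH.le) hHT
    have hKH : K ≤ H := hKM.trans hH.le
    have hn : (K₁.subgroupOf K).Normal := by
      refine ⟨fun r hr g => ?_⟩
      rw [mem_subgroupOf] at hr ⊢
      exact ((mem_normalizer_iff.1 (h2 (hKH g.2))) _).1 hr
    have hle : K ≤ K₁ := by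
      rcases hn.eq_bot_or_eq_top with h | h
      · exfalso
        have h7 : (⟨e J4UData.g, hPK (mem_zpowers _)⟩ : K) ∈ K₁.subgroupOf K := by
          rw [mem_subgroupOf]
          exact h6 (mem_zpowers _)
        rw [h, mem_bot] at h7
        have h8 : e J4UData.g = 1 := congrArg Subtype.val h7
        rw [hPdef, h8, zpowers_one_eq_bot, Subgroup.card_bot] at hPc
        norm_num at hPc
      · exact Subgroup.subgroupOf_eq_top.1 h
    have heq : K = K₁ := Subgroup.eq_of_le_of_card_ge hle (by rw [h5, hKc])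
    rw [← heq] at h2
    exact absurd (lt_of_lt_of_le hH h2) (lt_irrefl _)
  -- the index
  have hcard : Nat.card (normalizer (K : Set G)) = 2 * 70915680 := by
    have h1 := frattini_card hKM le_rfl hsyl
    rw [F.card_n37 hKc hPc hsyl, hKc] at h1
    obtain ⟨k, hk⟩ := Subgroup.card_dvd_of_le hKM
    rw [hKc] at hk
    have h2 : Nat.card (normalizer (P : Set G) ⊓ normalizer (K : Set G) : Subgroup G) ∣ 444 := by
      have := Subgroup.card_dvd_of_le (inf_le_left : normalizer (P : Set G) ⊓ normalizer (K : Set G) ≤ _)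
      rwa [F.n37 P hPc] at this
    have h3 : 2 ∣ Nat.card (normalizer (P : Set G) ⊓ normalizer (K : Set G) : Subgroup G) := by
      set x := Lib.F2MatGroup.getG J4UData.LX 4 with hx
      have hx1 : e x ∈ normalizer (P : Set G) := by
        rw [← hNm]
        exact ⟨x, x_norm, rfl⟩
      have hx2 : e x ∈ normalizer (K : Set G) := hSK ⟨x, J4UData.x_mem, rfl⟩
      have hx3 : orderOf (e x) = 2 := by
        rw [e.orderOf_eq]
        refine orderOf_eq_prime (by rw [pow_two]; exact J4UData.x_sq) fun h0 => ?_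
        have h4 := J4UData.g_eq
        rw [← hx, h0, one_mul] at h4
        have h5 := J4UData.order_g
        rw [h4] at h5
        have h6 := orderOf_dvd_of_pow_eq_one (show J4UData.a ^ 2 = 1 by rw [pow_two]; exact J4UData.a_sq)
        rw [h5] at h6
        norm_num at h6
      rw [← hx3, ← Subgroup.orderOf_mk (e x) (mem_inf.2 ⟨hx1, hx2⟩)]
      exact orderOf_dvd_natCard _
    obtain ⟨U, hU⟩ := exists_isSyl 11 K
    obtain ⟨h4, h5⟩ := F.card_n11 hKc hU
    have h6 := frattini_card hKM le_rfl hU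
    rw [h5, hKc] at h6
    have h7 : Nat.card (normalizer (U : Set G) ⊓ normalizer (K : Set G) : Subgroup G) ∣ 319440 := by
      have := Subgroup.card_dvd_of_le (inf_le_left : normalizer (U : Set G) ⊓ normalizer (K : Set G) ≤ _)
      rwa [F.n11 U h4] at this
    rw [hk] at h1 h6 ⊢
    have h8 : Nat.card (normalizer (P : Set G) ⊓ normalizer (K : Set G) : Subgroup G) = 111 * k := by omega
    have h9 : Nat.card (normalizer (U : Set G) ⊓ normalizer (K : Set G) : Subgroup G) = 53240 * k := by omega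
    rw [h8] at h2 h3
    rw [h9] at h7
    have h10 : k ∣ 4 := by
      rw [show 444 = 111 * 4 by norm_num] at h2
      exact Nat.dvd_of_mul_dvd_mul_left (by norm_num) h2
    have h11 : k ∣ 6 := by
      rw [show 319440 = 53240 * 6 by norm_num] at h7
      exact Nat.dvd_of_mul_dvd_mul_left (by norm_num) h7
    have h12 : k ∣ 2 := (Nat.dvd_gcd h10 h11).trans (by norm_num)
    have h13 : k ≤ 2 := Nat.le_of_dvd (by norm_num) h12
    interval_cases k <;> omega
  obtain ⟨x, hx, hr, hxc⟩ := exists_name F.tab (F.known K) hKn (F.dvd K)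
  have hx2 := names_psu x hx (by rw [← hxc, hKc])
  rw [hx2] at hr
  obtain ⟨F', i1, i2, h1, ⟨ε⟩⟩ := hr
  refine ⟨normalizer (K : Set G), hco, K.subgroupOf (normalizer (K : Set G)), F', i1, i2, ?_, ?_, ?_, ⟨?_⟩⟩
  · rw [h1]; norm_num
  · exact Subgroup.normal_in_normalizer
  · have h2 := card_mul_relIndex hKM
    rw [hcard, hKc, mul_comm] at h2
    exact Nat.eq_of_mul_eq_mul_right (by norm_num) h2
  · exact (Subgroup.subgroupOfEquivOfLe hKM).trans ε

end Cfsg.Agent.H866.J4PartA
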