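import Cfsg.Agent.H49.CoThreeThree
import Cfsg.Agent.H68.MeetBase
import Cfsg.Agent.BiChar.SmallCard
import Cfsg.Agent.BpSpor.CoThreeFive

/-!
# S2484 / S5760, `p = 3`: `Co3` (helper866)

The Sylow 3-subgroup `P = 3^5 : 3^2` of helper49 fixes a lattice vector `v1`, and the stabilizer in `P` of
`v2 = g v1` (`g` a permutation of order 23 of the coordinates) is trivial; so `P` and its conjugate by `g` intersect
trivially.
-/

set_option autoImplicit false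
set_option maxRecDepth 20000
set_option linter.unusedSectionVars false

namespace Cfsg.Agent.H866.MeetCoTh

open Cfsg Cfsg.Agent.SporadicA Cfsg.Agent.SporadicStructure.Co0Matrix Cfsg.Agent.CoOneType.CoEval
open Cfsg.Agent.CoOneType.CoFast Cfsg.Agent.LThreeCo1.Ev
open Cfsg.Agent.H49.Stab Cfsg.Agent.H49.MatCo3 Cfsg.Agent.H49.Form Cfsg.Agent.H49.CoThreeThree
open Subgroup Cfsg.Agent.H68.MeetB

/-! ### normal forms -/

theorem exists_mul_pow {G : Type*} [Group G] [Finite G] {H : Subgroup G} {c : G} (hc : ∀ x ∈ H, c * x * c⁻¹ ∈ H)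
    (h3 : c ^ 3 = 1) {x : G} (hx : x ∈ H ⊔ zpowers c) : ∃ y ∈ H, ∃ j < 3, x = y * c ^ j := by
  have hpw : ∀ d ∈ zpowers c, ∀ x ∈ H, d * x * d⁻¹ ∈ H := by
    rw [zpowers_eq_closure]
    apply Cfsg.Agent.H49.Red.conj_mem_of_gen
    rintro _ rfl
    exact hc
  have hle : H ⊔ zpowers c ≤ Cfsg.Agent.H49.Red.mulSub H (zpowers c) hpw := by
    rw [sup_le_iff]
    exact ⟨fun x hx => ⟨x, hx, 1, one_mem _, (mul_one x).symm⟩, fun x hx => ⟨1, one_mem _, x, hx, (one_mul x).symm⟩⟩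
  obtain ⟨y, hy, d, hd, rfl⟩ := hle hx
  obtain ⟨j, rfl⟩ := mem_zpowers_iff.1 hd
  refine ⟨y, hy, (j % 3).toNat, ?_, ?_⟩
  · have := Int.emod_lt_of_pos j (show (0 : ℤ) < 3 by norm_num)
    have := Int.emod_nonneg j (show (3 : ℤ) ≠ 0 by norm_num)
    omega
  · congr 1
    rw [← zpow_natCast, Int.toNat_of_nonneg (Int.emod_nonneg _ (by norm_num))]
    conv_lhs => rw [← Int.emod_add_mul_ediv j 3, zpow_add, zpow_mul]
    have : c ^ (3 : ℤ) = 1 := by exact_mod_cast h3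
    rw [this, one_zpow, mul_one]

/-! ### the data -/

/-- a vector fixed by the Sylow subgroup -/
def v1 : List ℤ := [0, 0, -2, -2, 2, 0, 0, 0, -2, -2, -2, 0, 0, 0, 0, -2, 0, -2, -2, 0, 2, 0, -2, -2]

/-- its image under a permutation of order 23 -/
def v2 : List ℤ := [-2, 0, 0, -2, -2, 2, 0, 0, 0, -2, -2, -2, 0, 0, 0, 0, -2, 0, -2, -2, 0, 2, 0, -2]

/-- the images of `v2` under `b ^ i * b' ^ j` -/
def W : ℕ → ℕ → List ℤ
  | 0, 0 => [-2, 0, 0, -2, -2, 2, 0, 0, 0, -2, -2, -2, 0, 0, 0, 0, -2, 0, -2, -2, 0, 2, 0, -2]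
  | 0, 1 => [1, -1, 1, -1, -1, -1, -1, 1, -1, -3, -1, 1, 1, -1, 1, 1, -3, -1, 1, -1, 1, -1, -1, -3]
  | 0, 2 => [0, 0, -2, 0, -2, 2, -4, 0, 0, -2, 0, 0, 0, -2, 0, -2, 0, -2, 0, 0, 0, 0, 0, -2]
  | 1, 0 => [2, -2, 0, -2, 0, 0, -2, 2, 0, -2, 0, -2, 0, -2, -2, 0, 0, -2, 0, -2, 0, 0, 0, -2]
  | 1, 1 => [1, 1, -1, -1, -1, 1, -1, -1, -1, -3, 1, -1, -3, -1, 1, -1, -1, 1, -1, -1, 1, 1, 1, -3]
  | 1, 2 => [-1, 1, 1, -1, -1, -1, -1, 1, -1, -3, -3, -1, -1, -1, -1, -1, -3, -1, -1, 1, -1, -1, 1, -1]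
  | 2, 0 => [0, 0, 0, -2, -2, 0, -2, 0, -2, 0, -2, 0, -2, -2, 0, -2, -2, 0, 2, 0, 2, 0, 0, -2]
  | 2, 1 => [-1, -1, -1, -1, 1, 1, -3, 1, 1, -1, -1, -3, -1, -1, 1, -1, -3, -1, -1, -1, -1, -1, -1, -1]
  | _, _ => [-1, 1, -1, -3, -1, 1, 1, 1, 1, -3, 1, -1, -1, -1, -1, 1, -1, -1, 1, -1, 1, -1, -1, -3]

/-- matrix of the permutation -/
def R6 : List (List ℤ) := [
  [0, 0, 0, 0, 0, 0, 0, 0, 0, 0, 0, 0, 0, 0, 0, 0, 0, 0, 0, 0, 0, 0, 8, 0],
  [8, 0, 0, 0, 0, 0, 0, 0, 0, 0, 0, 0, 0, 0, 0, 0, 0, 0, 0, 0, 0, 0, 0, 0],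
  [0, 8, 0, 0, 0, 0, 0, 0, 0, 0, 0, 0, 0, 0, 0, 0, 0, 0, 0, 0, 0, 0, 0, 0],
  [0, 0, 8, 0, 0, 0, 0, 0, 0, 0, 0, 0, 0, 0, 0, 0, 0, 0, 0, 0, 0, 0, 0, 0],
  [0, 0, 0, 8, 0, 0, 0, 0, 0, 0, 0, 0, 0, 0, 0, 0, 0, 0, 0, 0, 0, 0, 0, 0],
  [0, 0, 0, 0, 8, 0, 0, 0, 0, 0, 0, 0, 0, 0, 0, 0, 0, 0, 0, 0, 0, 0, 0, 0],
  [0, 0, 0, 0, 0, 8, 0, 0, 0, 0, 0, 0, 0, 0, 0, 0, 0, 0, 0, 0, 0, 0, 0, 0],
  [0, 0, 0, 0, 0, 0, 8, 0, 0, 0, 0, 0, 0, 0, 0, 0, 0, 0, 0, 0, 0, 0, 0, 0],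
  [0, 0, 0, 0, 0, 0, 0, 8, 0, 0, 0, 0, 0, 0, 0, 0, 0, 0, 0, 0, 0, 0, 0, 0],
  [0, 0, 0, 0, 0, 0, 0, 0, 8, 0, 0, 0, 0, 0, 0, 0, 0, 0, 0, 0, 0, 0, 0, 0],
  [0, 0, 0, 0, 0, 0, 0, 0, 0, 8, 0, 0, 0, 0, 0, 0, 0, 0, 0, 0, 0, 0, 0, 0],
  [0, 0, 0, 0, 0, 0, 0, 0, 0, 0, 8, 0, 0, 0, 0, 0, 0, 0, 0, 0, 0, 0, 0, 0],
  [0, 0, 0, 0, 0, 0, 0, 0, 0, 0, 0, 8, 0, 0, 0, 0, 0, 0, 0, 0, 0, 0, 0, 0],
  [0, 0, 0, 0, 0, 0, 0, 0, 0, 0, 0, 0, 8, 0, 0, 0, 0, 0, 0, 0, 0, 0, 0, 0],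
  [0, 0, 0, 0, 0, 0, 0, 0, 0, 0, 0, 0, 0, 8, 0, 0, 0, 0, 0, 0, 0, 0, 0, 0],
  [0, 0, 0, 0, 0, 0, 0, 0, 0, 0, 0, 0, 0, 0, 8, 0, 0, 0, 0, 0, 0, 0, 0, 0],
  [0, 0, 0, 0, 0, 0, 0, 0, 0, 0, 0, 0, 0, 0, 0, 8, 0, 0, 0, 0, 0, 0, 0, 0],
  [0, 0, 0, 0, 0, 0, 0, 0, 0, 0, 0, 0, 0, 0, 0, 0, 8, 0, 0, 0, 0, 0, 0, 0],
  [0, 0, 0, 0, 0, 0, 0, 0, 0, 0, 0, 0, 0, 0, 0, 0, 0, 8, 0, 0, 0, 0, 0, 0],
  [0, 0, 0, 0, 0, 0, 0, 0, 0, 0, 0, 0, 0, 0, 0, 0, 0, 0, 8, 0, 0, 0, 0, 0],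
  [0, 0, 0, 0, 0, 0, 0, 0, 0, 0, 0, 0, 0, 0, 0, 0, 0, 0, 0, 8, 0, 0, 0, 0],
  [0, 0, 0, 0, 0, 0, 0, 0, 0, 0, 0, 0, 0, 0, 0, 0, 0, 0, 0, 0, 8, 0, 0, 0],
  [0, 0, 0, 0, 0, 0, 0, 0, 0, 0, 0, 0, 0, 0, 0, 0, 0, 0, 0, 0, 0, 8, 0, 0],
  [0, 0, 0, 0, 0, 0, 0, 0, 0, 0, 0, 0, 0, 0, 0, 0, 0, 0, 0, 0, 0, 0, 0, 8]]

theorem ok6 : Ok R6 (tr R6) := Cfsg.Agent.CoOneType.CoFast.ok_of_okZ (by decide +kernel)

theorem g_v2 : apZ R6 v1 = v2 := by decide +kernel

theorem g_fix : apZ R6 vL = vL := by decide +kernel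

/-- the word of `b ^ i * b' ^ j` -/
def bb (i j : ℕ) : List ℕ := List.replicate i 4 ++ (List.replicate j [5, 4, 37]).flatten

theorem W_eq : ∀ i < 3, ∀ j < 3, foldZ (xM M) (bb i j) v2 = W i j := by decide +kernel

/-- `u` is none of the `W i j`, except perhaps `W 0 0` if `t` is true -/
def test (u : List ℤ) (t : Bool) : Bool :=
  (cond t true (!(eqL u (W 0 0)))) && !(eqL u (W 0 1)) && !(eqL u (W 0 2)) && !(eqL u (W 1 0)) && !(eqL u (W 1 1)) &&
    !(eqL u (W 1 2)) && !(eqL u (W 2 0)) && !(eqL u (W 2 1)) && !(eqL u (W 2 2))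

/-- the images of `u` under the products of powers of the first `k` generators -/
def loop (k : ℕ) : List ℤ → Bool → Bool :=
  Nat.rec (motive := fun _ => List ℤ → Bool → Bool) (fun u t => test u t)
    (fun k ih u t => ih u t && (ih (foldZ (xM M) (wv k) u) false && ih (foldZ (xM M) (wv k ++ wv k) u) false)) k

theorem fix1 : (∀ i < 5, foldZ (xM M) (wv i) v1 = v1) ∧ foldZ (xM M) [4] v1 = v1 ∧
    foldZ (xM M) [5, 4, 37] v1 = v1 := by decide +kernel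

/-- the image of `v2` under the last generator -/
def v3 : List ℤ := [-2, -2, -2, -2, -2, 0, 0, 0, 0, -2, 0, 0, 2, 0, 2, 0, 0, 0, -2, 0, -2, 0, -2, -2]

/-- the image of `v2` under the square of the last generator -/
def v4 : List ℤ := [-2, -2, -2, -2, -2, -2, 0, 0, 0, 0, -2, 0, 0, 2, 0, -2, 0, 0, 0, -2, 0, 2, 0, -2]

theorem v3_eq : foldZ (xM M) (wv 4) v2 = v3 := by decide +kernel

theorem v4_eq : foldZ (xM M) (wv 4 ++ wv 4) v2 = v4 := by decide +kernel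

theorem chk_loop0 : loop 4 v2 true = true := by decide +kernel

theorem chk_loop1 : loop 4 v3 false = true := by decide +kernel

theorem chk_loop2 : loop 4 v4 false = true := by decide +kernel

theorem chk_loop : loop 5 v2 true = true := by
  show (loop 4 v2 true && (loop 4 (foldZ (xM M) (wv 4) v2) false && loop 4 (foldZ (xM M) (wv 4 ++ wv 4) v2) false)) = true
  rw [v3_eq, v4_eq, chk_loop0, chk_loop1, chk_loop2]
  rfl

/-! ### the Sylow subgroup -/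

section abs

variable {G : Type*} [Group G] [Finite G] {f a b b' : G}

/-- the elementary abelian subgroup generated by the first `k` conjugates -/
abbrev EE (f a : G) (k : ℕ) : Subgroup G := closure (vv f a '' {i | i < k})

theorem vv_cube (ha3 : a ^ 3 = 1) (i : ℕ) : vv f a i ^ 3 = 1 := by
  unfold vv
  rw [conj_pow, ha3, mul_one, mul_inv_cancel]

theorem conj_mem {n : ℕ} (hcm : ∀ i < n, ∀ j < n, vv f a i * vv f a j = vv f a j * vv f a i) {k : ℕ} (hk : k < n) :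
    ∀ x ∈ EE f a k, vv f a k * x * (vv f a k)⁻¹ ∈ EE f a k := by
  intro x hx
  have h2 : EE f a k ≤ centralizer {vv f a k} := by
    rw [closure_le]
    rintro _ ⟨i, hi, rfl⟩
    rw [SetLike.mem_coe, mem_centralizer_singleton_iff]
    exact hcm _ (lt_trans hi hk) _ hk
  rw [← (mem_centralizer_singleton_iff.1 (h2 hx)), mul_inv_cancel_right]
  exact hx

theorem isP_step {H : Subgroup G} (hH : IsPGroup 3 H) {c : G} (hc : ∀ x ∈ H, c * x * c⁻¹ ∈ H) (h3 : c ^ 3 = 1) :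
    IsPGroup 3 ↥(H ⊔ zpowers c) := by
  refine IsPGroup.to_sup_of_normal_left' hH ?_ ?_
  · rintro ⟨x, hx⟩
    obtain ⟨j, rfl⟩ := mem_zpowers_iff.1 hx
    refine ⟨1, Subtype.ext ?_⟩
    show (c ^ j) ^ (3 ^ 1) = 1
    rw [pow_one, ← zpow_natCast, ← zpow_mul, mul_comm, zpow_mul, zpow_natCast, h3, one_zpow]
  · rw [zpowers_le]
    exact mem_normalizer_fintype hc

theorem isP_EE {n : ℕ} (ha3 : a ^ 3 = 1) (hcm : ∀ i < n, ∀ j < n, vv f a i * vv f a j = vv f a j * vv f a i) :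
    ∀ k ≤ n, IsPGroup 3 ↥(EE f a k) := by
  intro k
  induction k with
  | zero =>
    intro _
    have : EE f a 0 = ⊥ := by
      rw [closure_eq_bot_iff]
      rintro _ ⟨i, hi, rfl⟩
      exact absurd hi (Nat.not_lt_zero i)
    rw [this]
    exact IsPGroup.of_bot
  | succ k ih =>
    intro hk
    show IsPGroup 3 ↥(closure (vv f a '' {i | i < k + 1}))
    rw [closure_image_lt_succ]
    exact isP_step (ih (by omega)) (conj_mem hcm hk) (vv_cube ha3 k)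

/-- abstract form -/
theorem meetIn_abs {Ω : Type*} [MulAction G Ω] {g : G} {y1 y2 : Ω} (ha3 : a ^ 3 = 1)
    (hcm : ∀ i < 5, ∀ j < 5, vv f a i * vv f a j = vv f a j * vv f a i)
    (hb3 : b ^ 3 = 1) (hb'3 : b' ^ 3 = 1) (hbb : b * b' = b' * b)
    (hbE : ∀ x ∈ EE f a 5, b * x * b⁻¹ ∈ EE f a 5) (hbE' : ∀ x ∈ EE f a 5, b' * x * b'⁻¹ ∈ EE f a 5)
    (hcard : 3 ^ 7 ∣ Nat.card ↥(EE f a 5 ⊔ zpowers b ⊔ zpowers b')) (h8 : ¬ 3 ^ 8 ∣ Nat.card G)
    (hfix : ∀ i < 5, vv f a i • y1 = y1) (hfb : b • y1 = y1) (hfb' : b' • y1 = y1) (hg : g • y1 = y2)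
    (hl : ∀ h ∈ EE f a 5, ∀ i < 3, ∀ j < 3, h • y2 = (b ^ i * b' ^ j) • y2 → h = 1 ∧ i = 0 ∧ j = 0) :
    MeetIn 3 G := by
  have hc' : ∀ x ∈ EE f a 5 ⊔ zpowers b, b' * x * b'⁻¹ ∈ EE f a 5 ⊔ zpowers b := by
    have h : EE f a 5 ⊔ zpowers b ≤ (EE f a 5 ⊔ zpowers b).comap (MulAut.conj b').toMonoidHom := by
      rw [sup_le_iff, zpowers_le]
      refine ⟨fun x hx => (le_sup_left : EE f a 5 ≤ _) (hbE' x hx), ?_⟩
      show b' * b * b'⁻¹ ∈ EE f a 5 ⊔ zpowers b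
      rw [← hbb, mul_inv_cancel_right]
      exact (le_sup_right : zpowers b ≤ _) (mem_zpowers b)
    intro x hx
    exact h hx
  have hE := isP_EE ha3 hcm 5 le_rfl
  have hP : IsPGroup 3 ↥(EE f a 5 ⊔ zpowers b ⊔ zpowers b') := isP_step (isP_step hE hbE hb3) hc' hb'3
  have : Fact (Nat.Prime 3) := ⟨Nat.prime_three⟩
  have htriv : ∀ x ∈ EE f a 5 ⊔ zpowers b ⊔ zpowers b', x • y2 = y2 → x = 1 := by
    intro x hx h
    obtain ⟨y, hy, j, hj, rfl⟩ := exists_mul_pow hc' hb'3 hx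
    obtain ⟨e, he, i, hi, rfl⟩ := exists_mul_pow hbE hb3 hy
    obtain ⟨h1, rfl, rfl⟩ := hl e⁻¹ (inv_mem he) i hi j hj (by
      rw [inv_smul_eq_iff, ← mul_smul, ← mul_assoc]
      exact h.symm)
    rw [inv_eq_one.1 h1, pow_zero, pow_zero, mul_one, mul_one]
  have hfixP : EE f a 5 ⊔ zpowers b ⊔ zpowers b' ≤ MulAction.stabilizer G y1 := by
    rw [sup_le_iff, sup_le_iff, zpowers_le, zpowers_le, closure_le]
    refine ⟨⟨?_, hfb⟩, hfb'⟩
    rintro _ ⟨i, hi, rfl⟩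
    exact hfix i hi
  refine MeetIn.of_one _ hP (not_dvd_index Nat.prime_three hcard h8) ⟨g, fun y hy hgy => ?_⟩
  have h1 := htriv _ hgy (by
    rw [← hg, ← mul_smul, inv_mul_cancel_right, mul_smul]
    congr 1
    exact MulAction.mem_stabilizer_iff.1 (hfixP hy))
  have h2 : y = g⁻¹ * (g * y * g⁻¹) * g := by group
  rw [h2, h1]
  group

end abs

/-! ### the concrete group -/

theorem fix6 (i : ℕ) : (el (M := fun _ => R6) (fun _ => ok6) i).1 Spor.leechV = Spor.leechV := by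
  apply Subtype.ext
  refine (Rep.apply (rep_mk ok6) (l := vL) (by decide) vecV_eq).trans ?_
  rw [← apZ_eq, vecV_eq, g_fix]

/-- the letters -/
noncomputable abbrev e (i : ℕ) : St Spor.leechV := xs okM fix i

/-- the conjugating element -/
noncomputable def g : St Spor.leechV := se (M := fun _ => R6) (fun _ => ok6) fix6 0

theorem xmem1 : leechB v1 = true := by decide +kernel

theorem xmem2 : leechB v2 = true := by decide +kernel

/-- the fixed vector -/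
def y1 : leechLattice := ⟨vec v1, vec_mem_of_leechB xmem1⟩

/-- its image -/
def y2 : leechLattice := ⟨vec v2, vec_mem_of_leechB xmem2⟩

theorem g_y1 : g • y1 = y2 := by
  apply Subtype.ext
  refine (Rep.apply (rep_mk ok6) (l := v1) (v := y1) (by decide) rfl).trans ?_
  rw [← apZ_eq, g_v2]
  rfl

theorem len_fold {w : List ℕ} (hw : w ≠ []) (l : List ℤ) : (foldZ (xM M) w l).length = 24 := by
  rw [foldZ_eq]
  obtain ⟨i, w', hw'⟩ := List.exists_cons_of_ne_nil hw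
  rw [hw']
  show (ap _ _).length = 24
  rw [length_ap (xrep okM i).len]

theorem e37 : e 37 = (e 5)⁻¹ := xs_inv okM fix (i := 5) (by norm_num)

/-- the third power -/
noncomputable abbrev b' : St Spor.leechV := e 5 * e 4 * (e 5)⁻¹

theorem hb'w : (([5, 4, 37] : List ℕ).map e).prod = b' := by
  simp only [List.map_cons, List.map_nil, List.prod_cons, List.prod_nil, mul_one, e37, mul_assoc]

theorem bb_prod (i j : ℕ) : ((bb i j).map e).prod = e 4 ^ i * b' ^ j := by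
  unfold bb
  rw [List.map_append, List.prod_append, List.map_replicate, List.prod_replicate]
  congr 1
  induction j with
  | zero => simp
  | succ j ih => rw [List.replicate_succ, List.flatten_cons, List.map_append, List.prod_append, ih, hb'w, pow_succ']

theorem bb_y2 {i j : ℕ} (hi : i < 3) (hj : j < 3) :
    (((e 4 ^ i * b' ^ j) • y2 : leechLattice) : GolayPt → ℤ) = vec (W i j) := by
  rw [← bb_prod, smul_word okM fix (l := v2) (by decide) (x := y2) rfl, W_eq i hi j hj]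

theorem W_len : ∀ i < 3, ∀ j < 3, (W i j).length = 24 := by decide +kernel

/-- the facts from the checks -/
theorem facts : e 1 ^ 3 = 1 ∧ (∀ k < 5, e 1 * vv (e 2) (e 1) k = vv (e 2) (e 1) k * e 1) ∧ e 4 ^ 3 = 1 ∧
    (∀ k < 5, e 4 * vv (e 2) (e 1) k * (e 4)⁻¹ ∈ EE (e 2) (e 1) 5) ∧
    (∀ k < 5, b' * vv (e 2) (e 1) k * b'⁻¹ ∈ EE (e 2) (e 1) 5) ∧ e 4 * b' = b' * e 4 ∧
    vv (e 2) (e 1) 0 * e 4 ≠ e 4 * vv (e 2) (e 1) 0 ∧
    (∀ j < 3, vv (e 2) (e 1) 0 * (b' * e 4 ^ j) ≠ b' * e 4 ^ j * vv (e 2) (e 1) 0) := by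
  have C := chk
  have hfl := flat_prod okM fix
  have hwv := wv_prod okM fix
  have hone : ∀ i, (([i] : List ℕ).map e).prod = e i := fun i => by simp
  have hcons : ∀ i (l : List ℕ), ((i :: l).map e).prod = e i * (l.map e).prod := fun i l => by
    rw [List.map_cons, List.prod_cons]
  have happ : ∀ l l' : List ℕ, ((l ++ l').map e).prod = (l.map e).prod * (l'.map e).prod := fun l l' => by
    rw [List.map_append, List.prod_append]
  refine ⟨?_, ?_, ?_, ?_, ?_, ?_, ?_, ?_⟩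
  · have := word_eq okM fix C.c1
    simp only [List.map_cons, List.map_nil, List.prod_cons, List.prod_nil, mul_one] at this
    rw [pow_succ, pow_two, mul_assoc]; exact this
  · intro k hk
    have := word_eq okM fix (C.c2 k hk)
    rw [hcons, happ, hwv, hone] at this
    exact this
  · have := word_eq okM fix C.c9
    simp only [List.map_cons, List.map_nil, List.prod_cons, List.prod_nil, mul_one] at this
    rw [pow_succ, pow_two, mul_assoc]; exact this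
  · intro k hk
    have := word_eq okM fix (C.c10 k hk)
    rw [hcons, happ, hwv, hfl, hone] at this
    exact mem_of_word (C.hbw k hk) this
  · intro k hk
    have := word_eq okM fix (C.c11 k hk)
    rw [happ, happ, hwv, hfl, hb'w] at this
    exact mem_of_word (C.hbw' k hk) this
  · have := word_eq okM fix C.c12
    rw [show ([4, 5, 4, 37] : List ℕ) = 4 :: [5, 4, 37] from rfl, show ([5, 4, 37, 4] : List ℕ) = [5, 4, 37] ++ [4] from rfl,
      hcons, happ, hb'w, hone] at this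
    exact this
  · have := word_ne okM fix C.c14
    rwa [happ, hwv, hone, hcons, hwv] at this
  · intro j hj
    have := word_ne okM fix (C.c15 j hj)
    rwa [happ, happ, happ, happ, hwv, hb'w, List.map_replicate, List.prod_replicate] at this

theorem hcm : ∀ i < 5, ∀ j < 5, vv (e 2) (e 1) i * vv (e 2) (e 1) j = vv (e 2) (e 1) j * vv (e 2) (e 1) i :=
  vv_comm facts.2.1

theorem loop_sound [Finite (St Spor.leechV)] : ∀ (k : ℕ), k ≤ 5 → ∀ (u : List ℤ) (t : Bool), u.length = 24 → loop k u t = true →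
    ∀ x : leechLattice, (x : GolayPt → ℤ) = vec u → ∀ h ∈ EE (e 2) (e 1) k, ∀ i < 3, ∀ j < 3,
      h • x = (e 4 ^ i * b' ^ j) • y2 → t = true ∧ h = 1 ∧ i = 0 ∧ j = 0
  | 0, _, u, t, hu, hl, x, hx, h, hh, i, hi, j, hj, heq => by
    have h0 : h = 1 := by
      have : EE (e 2) (e 1) 0 = ⊥ := by
        rw [closure_eq_bot_iff]
        rintro _ ⟨i, hi, rfl⟩
        exact absurd hi (Nat.not_lt_zero i)
      rw [this, mem_bot] at hh
      exact hh
    subst h0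
    rw [one_smul] at heq
    have h1 : u = W i j := by
      apply vec_injective hu (W_len i hi j hj)
      rw [← hx, heq, bb_y2 hi hj]
    have h2 : eqL u (W i j) = true := by rw [h1]; exact eqL_refl _
    have h3 : test u t = true := hl
    unfold test at h3
    interval_cases i <;> interval_cases j <;> cases t <;> simp_all
  | k + 1, hk, u, t, hu, hl, x, hx, h, hh, i, hi, j, hj, heq => by
    have hl' : loop k u t = true ∧ loop k (foldZ (xM M) (wv k) u) false = true ∧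
        loop k (foldZ (xM M) (wv k ++ wv k) u) false = true := by
      have h1 : (loop k u t && (loop k (foldZ (xM M) (wv k) u) false &&
        loop k (foldZ (xM M) (wv k ++ wv k) u) false)) = true := hl
      rw [Bool.and_eq_true, Bool.and_eq_true] at h1
      exact h1
    obtain ⟨l0, l1, l2⟩ := hl'
    have hh' : h ∈ closure (vv (e 2) (e 1) '' {i | i < k + 1}) := hh
    rw [closure_image_lt_succ] at hh'
    obtain ⟨y, hy, c, hc, rfl⟩ := exists_mul_pow (conj_mem hcm (show k < 5 by omega)) (vv_cube facts.1 k) hh'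
    rw [mul_smul] at heq
    have hwv := wv_prod okM fix k
    have hne : wv k ≠ [] := by unfold wv; simp
    have hne2 : wv k ++ wv k ≠ [] := by unfold wv; simp
    interval_cases c
    · rw [pow_zero, one_smul] at heq
      obtain ⟨h1, h2, h3⟩ := loop_sound k (by omega) u t hu l0 x hx y hy i hi j hj heq
      exact ⟨h1, by rw [h2, pow_zero, mul_one], h3⟩
    · have h1 := loop_sound k (by omega) _ false (len_fold hne u) l1 (vv (e 2) (e 1) k • x)
        (by rw [← hwv, smul_word okM fix hu hx]) y hy i hi j hj (by rw [pow_one] at heq; exact heq)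
      exact absurd h1.1 (by decide)
    · have h1 := loop_sound k (by omega) _ false (len_fold hne2 u) l2 (vv (e 2) (e 1) k ^ 2 • x)
        (by
          rw [show vv (e 2) (e 1) k ^ 2 = ((wv k ++ wv k).map e).prod by
            rw [List.map_append, List.prod_append, hwv, pow_two], smul_word okM fix hu hx]) y hy i hi j hj heq
      exact absurd h1.1 (by decide)

theorem conj_EE {c : St Spor.leechV} (hc : ∀ k < 5, c * vv (e 2) (e 1) k * c⁻¹ ∈ EE (e 2) (e 1) 5) :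
    ∀ x ∈ EE (e 2) (e 1) 5, c * x * c⁻¹ ∈ EE (e 2) (e 1) 5 := by
  intro x hx
  have h2 : EE (e 2) (e 1) 5 ≤ (EE (e 2) (e 1) 5).comap (MulAut.conj c).toMonoidHom := by
    rw [closure_le]
    rintro _ ⟨i, hi, rfl⟩
    exact hc i hi
  exact h2 hx

theorem meetIn_St [Finite (St Spor.leechV)] (h8 : ¬ 3 ^ 8 ∣ Nat.card (St Spor.leechV)) :
    MeetIn 3 (St Spor.leechV) := by
  obtain ⟨ha3, hk, hb3, hbE, hbE', hbb, h1, h2⟩ := facts
  have hb'3 : b' ^ 3 = 1 := by rw [conj_pow, hb3, mul_one, mul_inv_cancel]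
  let x : leechLattice := ⟨vec xL, vec_mem_of_leechB chk.xmem⟩
  have hx : (x : GolayPt → ℤ) = vec xL := rfl
  have hEcard : 3 ^ 5 ∣ Nat.card (EE (e 2) (e 1) 5) := by
    refine pow_dvd_cyc Nat.prime_three ha3 hk x ?_ ?_
    · intro i hi
      apply Subtype.ext
      rw [← wv_prod okM fix, smul_word okM fix chk.xlen hx, chk.c16 i hi]
    · intro h0
      apply chk.c17
      have h1 := congrArg (Subtype.val) h0
      rw [← wv_prod okM fix, smul_word okM fix chk.xlen hx] at h1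
      exact vec_injective (len_fold (by unfold wv; simp) _) chk.xlen h1
  have hEc : ∀ x ∈ EE (e 2) (e 1) 5, vv (e 2) (e 1) 0 * x = x * vv (e 2) (e 1) 0 := by
    intro x hx
    have h2 : EE (e 2) (e 1) 5 ≤ centralizer {vv (e 2) (e 1) 0} := by
      rw [closure_le]
      rintro _ ⟨i, hi, rfl⟩
      rw [SetLike.mem_coe, mem_centralizer_singleton_iff]
      exact hcm _ hi _ (by norm_num)
    exact (mem_centralizer_singleton_iff.1 (h2 hx)).symm
  have hfix1 : ∀ {w : List ℕ}, foldZ (xM M) w v1 = v1 → (w.map e).prod • y1 = y1 := by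
    intro w hw
    apply Subtype.ext
    rw [smul_word okM fix (l := v1) (by decide) (x := y1) rfl, hw]
    rfl
  refine meetIn_abs (f := e 2) (a := e 1) (b := e 4) (b' := b') (g := g) (y1 := y1) (y2 := y2) ha3 hcm hb3 hb'3 hbb
    (conj_EE hbE) (conj_EE hbE')
    (pow_dvd_two Nat.prime_three hEcard hEc (conj_EE hbE) (conj_EE hbE') hb3 hb'3 hbb h1 h2) h8 ?_ ?_ ?_ g_y1 ?_
  · intro i hi
    rw [← wv_prod okM fix]
    exact hfix1 (fix1.1 i hi)
  · have := hfix1 fix1.2.1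
    simpa using this
  · have := hfix1 fix1.2.2
    rwa [hb'w] at this
  · intro h hh i hi j hj heq
    exact (loop_sound 5 le_rfl v2 true (by decide) chk_loop y2 rfl h hh i hi j hj heq).2

theorem meetIn_co3 : MeetIn 3 Spor.Co3 := by
  have hc : Nat.card Spor.Co3 = 495766656000 := Cfsg.Agent.BiChar.Small.card_Co3
  have hf : Finite Spor.Co3 := Nat.finite_of_card_ne_zero (by rw [hc]; norm_num)
  have : Finite (St Spor.leechV) := hf
  exact meetIn_St (by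
    have hc' : Nat.card (St Spor.leechV) = 495766656000 := hc
    rw [hc']
    norm_num)

/-- **The row `Co3`, `p = 3`.** -/
theorem meet3_Co3 {G : Type*} [Group G] [Finite G] [IsSimpleGroup G] (h : Cfsg.Spor.IsoCo3 G) :
    Cfsg.Agent.H903.SylMeet.Meet 3 G := by
  have : Fact (Nat.Prime 3) := ⟨Nat.prime_three⟩
  obtain ⟨e⟩ := h
  have hcard : Nat.card G = 495766656000 := (Nat.card_congr e.toEquiv).trans Cfsg.Agent.BiChar.Small.card_Co3
  exact MeetIn.meet ((Cfsg.Agent.CpAutCoThreeFive.autInner_co3 3).congr e.symm) (not_comm_of_card (by rw [hcard]; norm_num))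
    (meetIn_co3.congr e.symm)

end Cfsg.Agent.H866.MeetCoTh
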