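import Cfsg.Agent.H866.MeetHe
import Cfsg.Agent.H843.N29
import Cfsg.Agent.H547.SelfCent.Base
import Cfsg.Agent.H701.SporFi24

/-!
# S5760, `p = 2`: `Fi24'` (helper866)

An element of order 29 generates its centralizer and is inverted by an involution; involutions which are not
2-central have centralizers of order at least `2 |Fi22|`.
-/

set_option autoImplicit false

namespace Cfsg.Agent.H866.MeetTwo

open Subgroup Cfsg Cfsg.Agent.H68.MeetB

theorem card_cent_29 {x : Spor.Fi24'} (hx : orderOf x = 29) : Nat.card (centralizer ({x} : Set Spor.Fi24')) = 29 := by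
  have : Finite Spor.Fi24 := Cfsg.Agent.R08.FiTwentyFour.finite_Fi24
  have hx' : orderOf (x : Spor.Fi24) = 29 := by rw [Subgroup.orderOf_coe, hx]
  have h1 : Nat.card (centralizer ({(x : Spor.Fi24)} : Set Spor.Fi24)) = 29 := by
    rw [H547.SelfCent.card_cent_eq (r := 29) (by norm_num)
      (by rw [H843.Fi24N.card_Fi24]; norm_num) hx' H843.D29.order, ← H729.PairBase.centralizer_zpowers_eq,
      H843.D29.main.2]
  have h2 : Nat.card (centralizer ({x} : Set Spor.Fi24')) ≤ 29 := by
    rw [← h1]
    refine Nat.card_le_card_of_injective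
      (fun c : centralizer ({x} : Set Spor.Fi24') =>
        (⟨((c : Spor.Fi24') : Spor.Fi24), mem_centralizer_singleton_iff.2 (congrArg Subtype.val
          (mem_centralizer_singleton_iff.1 c.2))⟩ : centralizer ({(x : Spor.Fi24)} : Set Spor.Fi24))) ?_
    intro c d hcd
    have h3 : ((c : Spor.Fi24') : Spor.Fi24) = (d : Spor.Fi24') := by
      have h4 := congrArg Subtype.val hcd
      exact h4
    exact Subtype.ext (Subtype.ext h3)
  refine le_antisymm h2 ?_
  rw [← hx, ← Subgroup.orderOf_mk x (mem_centralizer_singleton_iff.2 rfl : x ∈ centralizer ({x} : Set Spor.Fi24'))]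
  exact Nat.le_of_dvd Nat.card_pos (orderOf_dvd_natCard _)

theorem card_Fi24p : Nat.card Spor.Fi24' = 1255205709190661721292800 := Cfsg.Agent.R08.FiTwentyFour.card_commutator

theorem meet2_fi24 {G : Type*} [Group G] [Finite G] [IsSimpleGroup G] (h : Cfsg.Spor.IsoFi24' G) : MeetIn 2 G := by
  obtain ⟨e⟩ := h
  refine MeetIn.congr e.symm ?_
  have hfin : Finite Spor.Fi24 := Cfsg.Agent.R08.FiTwentyFour.finite_Fi24
  have hR : H972.RO.RealAt Spor.Fi24' 29 := by
    refine H972.RO.of_index_two Cfsg.Agent.R08.FiTwentyFour.index_commutator (r := 29) (by norm_num) (by norm_num)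
      H843.D29.order ?_ ?_
    · rw [← H729.PairBase.centralizer_zpowers_eq, H843.D29.main.2]; norm_num
    · rw [H843.D29.main.1]; norm_num
  refine meet_of_realAt_sq (by norm_num) (by norm_num) hR (fun x hx => card_cent_29 hx) fun y hy => ?_
  rcases CTwoTab.FiTF.classes y hy with ⟨a, b, P, hab⟩ | ⟨g, hg⟩
  · right
    have h1 : Nat.card (CTwoTab.FiTF.N a b) ∣ Nat.card (centralizer ({y} : Set Spor.Fi24')) :=
      card_dvd_of_le (CTwoTab.FiTF.N_le hab)
    rw [(Nat.card_congr (CTwoTab.FiTF.eN a b).toEquiv).trans (OddHalf.D4.Spor.FiTF.card_Cab P)] at h1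
    have h2 := Nat.le_of_dvd Nat.card_pos h1
    rw [card_Fi24p]
    calc 1255205709190661721292800 < (2 * 64561751654400) ^ 2 := by norm_num
      _ ≤ _ := Nat.pow_le_pow_left h2 2
  · left
    rw [← Fi23Odd.index_conj (isConj_iff.2 ⟨g, hg.symm⟩)]
    have h1 := (centralizer ({CTwoTab.FiTF.z0} : Set Spor.Fi24')).card_mul_index
    rw [H701.card_z0, card_Fi24p] at h1
    have h2 : (centralizer ({CTwoTab.FiTF.z0} : Set Spor.Fi24')).index = 7819305288795 := by omega
    rw [h2]
    exact ⟨3909652644397, by norm_num⟩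

end Cfsg.Agent.H866.MeetTwo
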