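import Cfsg.Agent.H68.MeetBase
import Cfsg.Agent.H866.MeetReal
import Cfsg.Agent.H866.Fi23Odd
import Cfsg.Agent.H972.RO
import Cfsg.Agent.H839.SeventeenMain
import Cfsg.Agent.KFacts.FiTTh.Has

/-!
# S5760, `p = 2`: `Fi23` (helper866)

An element of order 17 is inverted by an involution and all involutions are 2-central.
-/

set_option autoImplicit false

namespace Cfsg.Agent.H866.MeetTwo

open Subgroup Cfsg Cfsg.Agent.H68.MeetB

theorem meet_of_realAt {S : Type*} [Group S] [Finite S] {r : ℕ}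
    (h : H972.RO.RealAt S r) (hodd : ∀ y : S, orderOf y = 2 → Odd (centralizer ({y} : Set S)).index) : MeetIn 2 S := by
  obtain ⟨x, y, hx, hy, hxy, hC⟩ := h
  refine MeetZ.meet_of_odd (hodd y hy) (by rw [← pow_two, ← hy, pow_orderOf_eq_one]) hxy ?_
  rw [← Nat.not_even_iff_odd, even_iff_two_dvd]
  intro h2
  have : Fact (Nat.Prime 2) := ⟨Nat.prime_two⟩
  obtain ⟨⟨t, ht⟩, hto⟩ := exists_prime_orderOf_dvd_card' 2 h2
  rw [Subgroup.orderOf_mk] at hto
  exact hC t hto (mem_centralizer_singleton_iff.1 ht)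

theorem meet2_fi23 {G : Type*} [Group G] [Finite G] [IsSimpleGroup G] (h : Cfsg.Spor.IsoFi23 G) : MeetIn 2 G := by
  obtain ⟨e⟩ := h
  refine MeetIn.congr e.symm ?_
  have hfin : Finite Spor.Fi23 := Finite.of_equiv G e.toEquiv
  have hR : H972.RO.RealAt Spor.Fi23 17 := by
    refine H972.RO.of_sub (r := 17) (by norm_num) (by norm_num) ?_ ?_ ?_
    · rw [← H839.Fi23.card_y17]
      exact Subgroup.card_subgroup_dvd_card _
    · intro P hP
      rw [(H839.Fi23.seventeen_main P hP).2, hP]; norm_num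
    · intro P hP
      rw [(H839.Fi23.seventeen_main P hP).1]; norm_num
  obtain ⟨S, H⟩ := KFacts.FiTTh.Has.sheet
  refine meet_of_realAt hR fun y hy => ?_
  refine Fi23Odd.odd_index H ?_ ?_
  · rw [← pow_two, ← hy, pow_orderOf_eq_one]
  · rintro rfl
    rw [orderOf_one] at hy
    omega

end Cfsg.Agent.H866.MeetTwo
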