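import Cfsg.Agent.H866.MeetFiTh
import Cfsg.Agent.H729.PairHe
import Cfsg.Agent.H547.SelfCent.He
import Cfsg.Agent.SigZeroHN.Main

/-!
# S5760, `p = 2`: `He` (helper866)

An element of order 17 generates its centralizer and is inverted by an involution; involutions which are not
2-central have centralizers of order at least `80640`, and `80640 ^ 2 > |He|`.
-/

set_option autoImplicit false

namespace Cfsg.Agent.H866.MeetTwo

open Subgroup Cfsg Cfsg.Agent.H68.MeetB

/-- **criterion** with `RealAt` -/
theorem meet_of_realAt_sq {S : Type*} [Group S] [Finite S] {r : ℕ} (hr2 : r ≠ 2) (hr : r.Prime)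
    (h : H972.RO.RealAt S r) (hsc : ∀ x : S, orderOf x = r → Nat.card (centralizer ({x} : Set S)) = r)
    (hodd : ∀ y : S, orderOf y = 2 → Odd (centralizer ({y} : Set S)).index ∨
      Nat.card S < Nat.card (centralizer ({y} : Set S)) ^ 2) : MeetIn 2 S := by
  obtain ⟨x, y, hx, hy, hxy, -⟩ := h
  refine MeetReal.meet_of_real (x := x) ?_ (by rw [hx]; exact hr.odd_of_ne_two hr2) (isConj_iff.2 ⟨y, hxy⟩)
    (by rw [hx]; exact hsc x hx) hodd
  rintro rfl
  rw [orderOf_one] at hx
  exact hr.one_lt.ne hx

open Cfsg.Spor Cfsg.Spor.He Cfsg.Agent.KFacts.He.TwoAPlane Cfsg.Agent.KFacts.He.TwoACent in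
theorem card_L_le : 80640 ≤ Nat.card (centralizer ({(PresentedGroup.of Gen.a : He)} : Set He)) := by
  have := H729.PairHe.finite_he
  have h1 := KFacts.He.TwoA.two_a.1
  have h2 : Nat.card L = 80640 := by
    have h3 := Th.ker.card_mul_index
    rw [Subgroup.index_ker, MonoidHom.range_eq_top.2 Th_surjective, card_top] at h3
    have h4 : Nat.card ONType.Psl.PSL3 = 20160 := ONType.PslCard.card_PSL3
    have h5 : Nat.card Th.ker = 4 := by
      rw [ker_Th, ← card_V]
      exact Nat.card_congr (Subgroup.subgroupOfEquivOfLe KFacts.He.TwoACent.V_le_L).toEquiv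
    rw [h4, h5] at h3
    exact h3.symm
  rw [← h2]
  exact Nat.le_of_dvd Nat.card_pos (card_dvd_of_le h1)

theorem meet2_he {G : Type*} [Group G] [Finite G] [IsSimpleGroup G] (h : Cfsg.Spor.IsoHe G) : MeetIn 2 G := by
  obtain ⟨e⟩ := h
  refine MeetIn.congr e.symm ?_
  have hfin := H729.PairHe.finite_he
  have hs : IsSimpleGroup Spor.He := KFacts.He.Cent.simpleHe
  have hR : H972.RO.RealAt Spor.He 17 := by
    refine H972.RO.of_card_fermat (r := 17) (k := 4) (by norm_num) (by norm_num) (by norm_num) ?_ ?_ ?_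
      (H729.PairHe.noTwo (by norm_num) (by norm_num) (by norm_num) (by norm_num)) <;>
      rw [KFacts.He.Classes.card_he] <;> norm_num
  refine meet_of_realAt_sq (by norm_num) (by norm_num) hR (fun x hx => ?_) fun y hy => ?_
  · exact H547.SelfCent.HeRow.he ⟨MulEquiv.refl _⟩ KFacts.He.Classes.card_he hx
  · have hyy : y * y = 1 := by rw [← pow_two, ← hy, pow_orderOf_eq_one]
    have hy1 : y ≠ 1 := by
      rintro rfl
      rw [orderOf_one] at hy
      omega
    rcases KFacts.He.Classes.two_classes_a hyy hy1 with ⟨g, hg⟩ | ⟨g, hg⟩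
    · left
      rw [← Fi23Odd.index_conj (isConj_iff.2 ⟨g, hg⟩)]
      have h1 := (centralizer ({KFacts.He.Bound.z} : Set Spor.He)).card_mul_index
      rw [KFacts.He.Classes.card_centralizer, KFacts.He.Classes.card_he] at h1
      have h2 : (centralizer ({KFacts.He.Bound.z} : Set Spor.He)).index = 187425 := by omega
      rw [h2]
      exact ⟨93712, by norm_num⟩
    · right
      rw [← SigZeroHN.card_centralizer_conj (isConj_iff.2 ⟨g, hg⟩), KFacts.He.Classes.card_he]
      calc 4030387200 < 80640 ^ 2 := by norm_num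
        _ ≤ _ := Nat.pow_le_pow_left card_L_le 2

end Cfsg.Agent.H866.MeetTwo
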