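import Cfsg.Agent.H68.MeetBase
import Cfsg.Agent.H845.CopLy
import Cfsg.Agent.MonsterX.ThOneClass
import Cfsg.Agent.KFacts.Th.Main
import Cfsg.Agent.H690.Spor.ONRow
import Cfsg.Agent.H126.RO.Th
import Cfsg.Agent.H866.MeetZ

/-!
# S5760, `p = 2`: the sporadic groups `O'N`, `Ly`, `Th` (helper866)
-/

set_option autoImplicit false

namespace Cfsg.Agent.H866.MeetTwo

open Subgroup Cfsg Cfsg.Agent.H68.MeetB

/-- `O'N`: counting -/
theorem meet2_on {G : Type*} [Group G] [Finite G] [IsSimpleGroup G] (h : Cfsg.Spor.IsoON G) : MeetIn 2 G := by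
  obtain ⟨e⟩ := h
  refine MeetIn.congr e.symm ?_
  have : Fact (Nat.Prime 2) := ⟨Nat.prime_two⟩
  have hc := Cfsg.Agent.H690.Spor.ONRow.card_ON
  have : Finite Cfsg.Spor.ON := Nat.finite_of_card_ne_zero (by rw [hc]; norm_num)
  refine MeetIn.of_centralizer (n := 9) (b := 161280) (by rw [hc]; norm_num)
    (fun y hy => (Cfsg.Agent.H690.Spor.ONRow.card_inv hy).le) (by rw [hc]; norm_num)

/-- `Ly`: counting -/
theorem meet2_ly {G : Type*} [Group G] [Finite G] [IsSimpleGroup G] (h : Cfsg.Spor.IsoLy G) : MeetIn 2 G := by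
  have : Fact (Nat.Prime 2) := ⟨Nat.prime_two⟩
  obtain ⟨-, hs, hc, ⟨L⟩⟩ := Cfsg.Agent.TypeM.FactsLy.facts h
  have hct := Cfsg.Agent.H845.CopLy.card_cent L
  refine MeetIn.of_centralizer (n := 8) (b := 39916800) (by rw [hc]; norm_num) (fun y hy => ?_)
    (by rw [hc]; norm_num)
  obtain ⟨h1, h2⟩ := Cfsg.Agent.TypeM.Two.MT.sq_of_orderOf hy
  obtain ⟨g, hg⟩ := L.one y h1 h2
  rw [← hg, Cfsg.Agent.Blocks.SylowIn.card_centralizer_of_isConj (isConj_iff.2 ⟨g, rfl⟩)]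
  exact hct.le

/-- `Th`: an element of order 13 -/
theorem meet2_th {G : Type*} [Group G] [Finite G] [IsSimpleGroup G] (h : Cfsg.Spor.IsoTh G) : MeetIn 2 G := by
  refine MeetZ.meet_of_realOdd (Cfsg.Agent.H126.RO.ro_Th h) ?_
  obtain ⟨e⟩ := h
  intro s t hs ht
  have h1 := Cfsg.Agent.MonsterX.ThOneClass.oneClass (e s) (e t) (by rw [MulEquiv.orderOf_eq, hs])
    (by rw [MulEquiv.orderOf_eq, ht])
  obtain ⟨c, hc⟩ := isConj_iff.1 h1
  refine isConj_iff.2 ⟨e.symm c, ?_⟩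
  apply e.injective
  rw [map_mul, map_mul, map_inv, e.apply_symm_apply, hc]

end Cfsg.Agent.H866.MeetTwo
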