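import Cfsg.Agent.S1347
import Cfsg.Agent.H284.FStd

/-!
# Standard subgroups of groups without odd core

`red` : `O(G) = 1`, `A` standard in `G`: `A` is normal, or `A` is simple and its normal closure is isomorphic to
`A × A`, or `A` is contained in the simple layer `X` of `G`, and `A` is isomorphic to a normal component of the
fixed subgroup of an involutory automorphism of `X`.
-/

set_option autoImplicit false

namespace Cfsg.Agent.H866.StdRed

open Cfsg Subgroup Cfsg.Agent.SignalizersComponents Cfsg.Agent.SignalizersComponents.Components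
open Cfsg.Agent.H284.FStd

universe u

/-- two commuting simple subgroups with trivial intersection: the join is the direct product -/
theorem exists_prod {G : Type*} [Group G] {X Y : Subgroup G} (hc : ∀ a ∈ X, ∀ b ∈ Y, a * b = b * a)
    (hi : X ⊓ Y = ⊥) : Nonempty (↥(X ⊔ Y) ≃* ↥X × ↥Y) := by
  let f : ↥X × ↥Y →* G :=
    { toFun := fun p => (p.1 : G) * p.2
      map_one' := by simp
      map_mul' := by
        rintro ⟨⟨a, ha⟩, ⟨b, hb⟩⟩ ⟨⟨c, hc'⟩, ⟨d, hd⟩⟩
        change a * c * (b * d) = a * b * (c * d)
        have h := hc c hc' b hb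
        calc a * c * (b * d) = a * (c * b) * d := by group
          _ = a * (b * c) * d := by rw [h]
          _ = a * b * (c * d) := by group }
  have hf : Function.Injective f := by
    rintro ⟨⟨a, ha⟩, ⟨b, hb⟩⟩ ⟨⟨c, hc'⟩, ⟨d, hd⟩⟩ h
    have h1 : a * b = c * d := h
    have h2 : c⁻¹ * a = d * b⁻¹ := by
      rw [inv_mul_eq_iff_eq_mul, ← mul_assoc, ← h1]; group
    have h3 : c⁻¹ * a ∈ X ⊓ Y :=
      mem_inf.2 ⟨mul_mem (inv_mem hc') ha, by rw [h2]; exact mul_mem hd (inv_mem hb)⟩
    rw [hi, mem_bot] at h3
    have h4 : a = c := by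
      rw [inv_mul_eq_one] at h3
      exact h3.symm
    subst h4
    have h5 : b = d := mul_left_cancel h1
    subst h5
    rfl
  have hr : f.range = X ⊔ Y := by
    apply le_antisymm
    · rintro _ ⟨⟨⟨a, ha⟩, ⟨b, hb⟩⟩, rfl⟩
      exact mul_mem ((le_sup_left : X ≤ X ⊔ Y) ha) ((le_sup_right : Y ≤ X ⊔ Y) hb)
    · rw [sup_le_iff]
      exact ⟨fun a ha => ⟨(⟨a, ha⟩, 1), by change a * 1 = a; rw [mul_one]⟩,
        fun b hb => ⟨(1, ⟨b, hb⟩), by change 1 * b = b; rw [one_mul]⟩⟩
  exact ⟨((MonoidHom.ofInjective hf).trans (MulEquiv.subgroupCongr hr)).symm⟩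

/-- **The reduction.** -/
theorem red {G : Type u} [Group G] [Finite G] (hO : oddCore G = ⊥) {A : Subgroup G} (hA : IsStandardSubgroup A) :
    A.Normal ∨ (IsSimpleGroup ↥A ∧ Nonempty (↥(normalClosure (A : Set G)) ≃* ↥A × ↥A)) ∨
      (IsSimpleGroup ↥(layer G) ∧ ¬ IsMulCommutative ↥(layer G) ∧ A ≤ layer G ∧
        ∃ (x : MulAut ↥(layer G)) (L : Subgroup ↥(fixedSubgroup x)), x * x = 1 ∧ x ≠ 1 ∧ L.Normal ∧
          IsComponent L ∧ Nonempty (↥L ≃* ↥A)) := by
  by_cases hn : A.Normal
  · exact Or.inl hn
  right
  obtain ⟨t, ht, htA⟩ : ∃ t : G, orderOf t = 2 ∧ t ∈ centralizer (A : Set G) := by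
    have : Fact (Nat.Prime 2) := ⟨Nat.prime_two⟩
    obtain ⟨t, ht⟩ := exists_prime_orderOf_dvd_card' 2 hA.2.1.1.two_dvd
    exact ⟨t, by rw [Subgroup.orderOf_coe, ht], t.2⟩
  have h2 : pCore 2 G = ⊥ := by
    by_contra h2
    exact hn (StandardTrichotomy.normal_of_pCore_ne_bot hA ht htA h2)
  have hC := StandardTrichotomy.centralizer_layer_eq_bot hO h2
  have hle : A ≤ layer G := S1347.le_layer hA hO t ht htA hC
  rcases S1347.result A hA hO t ht htA with h | ⟨X, hXs, hXn, ⟨e⟩, hcomm, hinf, hsup, -⟩ | ⟨-, hs, hna⟩
  · exact absurd h hn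
  · left
    have hAs : IsSimpleGroup ↥A := e.symm.isSimpleGroup
    refine ⟨hAs, ?_⟩
    set Y : Subgroup G := X.map (MulAut.conj t).toMonoidHom with hY
    have hEn : (layer G).Normal := layer_normal G
    have hN : normalClosure (A : Set G) = layer G := by
      apply le_antisymm (normalClosure_le_normal hle)
      have htY : ∀ y ∈ X, t * y * t⁻¹ ∈ Y := fun y hy => ⟨y, hy, rfl⟩
      have hX : X ≤ normalClosure (A : Set G) := by
        have h1 : ((normalClosure (A : Set G)).subgroupOf X).Normal := inferInstance
        rcases h1.eq_bot_or_eq_top with h | h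
        · exfalso
          have h3 : ∀ n ∈ normalClosure (A : Set G), ∀ y ∈ X, n * y = y * n := by
            intro n hn y hy
            have hnE : n ∈ X ⊔ Y := by rw [hsup]; exact (normalClosure_le_normal hle) hn
            have h4 : n * y * n⁻¹ ∈ X := by
              have h5 : X ⊔ Y ≤ normalizer (X : Set G) := by
                rw [sup_le_iff]
                refine ⟨le_normalizer, fun b hb => ?_⟩
                rw [mem_normalizer_iff]
                intro a
                constructor
                · intro ha
                  rw [← hcomm a ha b hb, mul_inv_cancel_right]; exact ha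
                · intro ha
                  have h6 := hcomm _ ha b hb
                  have h7 : a * b⁻¹ * b = b⁻¹ * (b * a * b⁻¹ * b) := by group
                  have h8 : b * a * b⁻¹ = a := by
                    have h9 : b * a * b⁻¹ * b = b * (b * a * b⁻¹) := h6
                    have h10 : a = b * a * b⁻¹ := by
                      have h11 : b * a = b * (b * a * b⁻¹) := by rw [← h9]; group
                      exact mul_left_cancel h11
                    exact h10.symm
                  rw [h8] at ha
                  exact ha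
              exact (mem_normalizer_iff.1 (h5 hnE) y).1 hy
            have h5 : n * y * n⁻¹ * y⁻¹ ∈ normalClosure (A : Set G) := by
              have h6 : n * (y * n⁻¹ * y⁻¹) ∈ normalClosure (A : Set G) :=
                mul_mem hn (normalClosure_normal.conj_mem _ (inv_mem hn) y)
              have h7 : n * (y * n⁻¹ * y⁻¹) = n * y * n⁻¹ * y⁻¹ := by group
              rwa [h7] at h6
            have h6 : n * y * n⁻¹ * y⁻¹ = 1 := by
              have h7 : (⟨n * y * n⁻¹ * y⁻¹, mul_mem h4 (inv_mem hy)⟩ : ↥X) ∈
                  (normalClosure (A : Set G)).subgroupOf X := h5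
              rw [h, mem_bot] at h7
              exact congrArg Subtype.val h7
            have h7 : n * y * n⁻¹ = y := by rwa [mul_inv_eq_one] at h6
            rwa [mul_inv_eq_iff_eq_mul] at h7
          have h4 : normalClosure (A : Set G) ≤ centralizer (layer G : Set G) := by
            rw [← hsup, le_centralizer_iff, sup_le_iff]
            constructor
            · intro y hy
              rw [mem_centralizer_iff]
              intro n hn
              exact h3 n hn y hy
            · rintro _ ⟨y, hy, rfl⟩
              change t * y * t⁻¹ ∈ _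
              rw [mem_centralizer_iff]
              intro n hn
              have h5 : t⁻¹ * n * t ∈ normalClosure (A : Set G) := by
                have := normalClosure_normal.conj_mem n hn t⁻¹
                rwa [inv_inv] at this
              have h6 := h3 _ h5 y hy
              calc n * (t * y * t⁻¹) = t * ((t⁻¹ * n * t) * y) * t⁻¹ := by group
                _ = t * (y * (t⁻¹ * n * t)) * t⁻¹ := by rw [h6]
                _ = _ := by group
          rw [hC, le_bot_iff] at h4
          apply StandardTrichotomy.ne_bot hA
          rw [eq_bot_iff, ← h4]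
          exact subset_normalClosure
        · exact subgroupOf_eq_top.1 h
      rw [← hsup, sup_le_iff]
      refine ⟨hX, ?_⟩
      rintro _ ⟨y, hy, rfl⟩
      exact normalClosure_normal.conj_mem y (hX hy) t
    obtain ⟨f⟩ := exists_prod hcomm hinf
    have g : ↥X ≃* ↥Y := X.equivMapOfInjective _ (MulAut.conj t).injective
    exact ⟨(MulEquiv.subgroupCongr (hN.trans hsup.symm)).trans (f.trans (MulEquiv.prodCongr e (g.symm.trans e)))⟩
  · right
    have hEn : (layer G).Normal := layer_normal G
    obtain ⟨h3, h4, h5⟩ := comp_fix hC hA hle ht htA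
    refine ⟨hs, hna, hle, _, _, h3, h4, ?_, h5, ⟨BBequiv hle htA⟩⟩
    refine ⟨fun a ha y => ?_⟩
    have hy : ((y : ↥(layer G)) : G) ∈ centralizer ({t} : Set G) := by
      rw [mem_centralizer_singleton_iff]
      exact (mem_fix.1 y.2).symm
    have hn := StandardTrichotomy.centralizer_involution_le hA ht htA hy
    exact (mem_normalizer_iff.1 hn _).1 ha

end Cfsg.Agent.H866.StdRed
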